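import Mathlib

/-!
Symplectic-type two-groups of matrices: signs, the size of centralisers, involutions centralising an element of
the normaliser.
-/

set_option autoImplicit false

namespace CfsgLib.MaxSub.Extra

open Matrix Subgroup

variable {F : Type*} [Field F] {ι : Type} [Fintype ι] [DecidableEq ι]

local notation "GLι" => GL ι F

/-- Equality up to sign. -/
def PM (x y : GL ι F) : Prop := x = y ∨ x = -y

namespace PM

variable {x y z x' y' : GL ι F}

theorem refl (x : GL ι F) : PM x x := Or.inl rfl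

theorem negl (x : GL ι F) : PM (-x) x := Or.inr rfl

theorem symm (h : PM x y) : PM y x := by
  rcases h with h | h
  · exact Or.inl h.symm
  · exact Or.inr (by rw [h, neg_neg])

theorem trans (h : PM x y) (h' : PM y z) : PM x z := by
  rcases h with rfl | rfl <;> rcases h' with rfl | rfl
  · exact Or.inl rfl
  · exact Or.inr rfl
  · exact Or.inr rfl
  · exact Or.inl (neg_neg _)

theorem mul (h : PM x y) (h' : PM x' y') : PM (x * x') (y * y') := by
  rcases h with rfl | rfl <;> rcases h' with rfl | rfl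
  · exact Or.inl rfl
  · exact Or.inr (mul_neg _ _)
  · exact Or.inr (neg_mul _ _)
  · exact Or.inl (neg_mul_neg _ _)

theorem inv (h : PM x y) : PM x⁻¹ y⁻¹ := by
  rcases h with rfl | rfl
  · exact Or.inl rfl
  · exact Or.inr (inv_eq_of_mul_eq_one_right (by rw [neg_mul_neg, mul_inv_cancel]))

theorem pow (h : PM x y) : ∀ n : ℕ, PM (x ^ n) (y ^ n)
  | 0 => by rw [pow_zero, pow_zero]; exact refl 1
  | n + 1 => by rw [pow_succ, pow_succ]; exact (h.pow n).mul h

theorem conj (g : GL ι F) (h : PM x y) : PM (g * x * g⁻¹) (g * y * g⁻¹) :=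
  ((refl g).mul h).mul (refl g⁻¹)

theorem sq (h : PM x y) : x * x = y * y := by
  rcases h with rfl | rfl
  · rfl
  · exact neg_mul_neg _ _

theorem mem {H : Subgroup (GL ι F)} (hH : -1 ∈ H) (h : PM x y) (hy : y ∈ H) : x ∈ H := by
  rcases h with rfl | rfl
  · exact hy
  · rw [← neg_one_mul]; exact mul_mem hH hy

end PM

theorem pm_one_iff {x : GL ι F} : PM x 1 ↔ x = 1 ∨ x = -1 := Iff.rfl

/-- A group of isometries of a symplectic-type two-group with centre of order two and minus type. -/
structure Ext (R : Subgroup (GL ι F)) : Prop where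
  two : (2 : F) ≠ 0
  ncard : (Fintype.card ι : F) ≠ 0
  fin : Finite R
  neg : -1 ∈ R
  comm : ∀ x ∈ R, ∀ y ∈ R, x * y = y * x ∨ x * y = -(y * x)
  sq : ∀ x ∈ R, PM (x * x) 1
  central : ∀ x ∈ R, (∀ y ∈ R, x * y = y * x) → PM x 1
  irr : ∀ M : Matrix ι ι F, (∀ s ∈ R, M * (s : Matrix ι ι F) = (s : Matrix ι ι F) * M) → ∃ c : F, M = c • 1
  elem : ∀ C ≤ R, (∀ x ∈ C, x * x = 1) → Nat.card C * 8 < Nat.card R
  order : 128 ≤ Nat.card R

/-- A non-central involution of `R`. -/
def IZ (R : Subgroup (GL ι F)) (z : GL ι F) : Prop := z ∈ R ∧ z * z = 1 ∧ ¬ PM z 1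

namespace Ext

variable {R : Subgroup (GL ι F)} (X : Ext R)
include X

theorem nonempty : Nonempty ι := by
  by_contra h
  rw [not_nonempty_iff] at h
  exact X.ncard (by simp)

theorem ne_neg (g : GL ι F) : g ≠ -g := fun h => by
  haveI := X.nonempty
  refine g.ne_zero ?_
  have e : (g : Matrix ι ι F) = -(g : Matrix ι ι F) := congrArg Units.val h
  have : (2 : F) • (g : Matrix ι ι F) = 0 := by rw [two_smul]; exact add_eq_zero_iff_eq_neg.2 e
  exact (smul_eq_zero.1 this).resolve_left X.two

theorem one_ne_neg : (1 : GL ι F) ≠ -1 := X.ne_neg 1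

theorem norm_neg : -1 ∈ normalizer (R : Set (GL ι F)) := le_normalizer X.neg

theorem mem_pm {x y : GL ι F} (h : PM x y) (hy : y ∈ R) : x ∈ R := h.mem X.neg hy

theorem sq_neg {x : GL ι F} (hx : x ∈ R) (h : x * x ≠ 1) : x * x = -1 := (X.sq x hx).resolve_left h

theorem anti {x : GL ι F} (hx : x ∈ R) (hn : ¬ PM x 1) : ∃ r ∈ R, r * x = -(x * r) := by
  by_contra! hh
  exact hn (X.central x hx fun r hr => ((X.comm r hr x hx).resolve_right (hh r hr)).symm)

theorem half {C : Subgroup (GL ι F)} (hC : C ≤ R) {a : GL ι F} (ha : a ∈ R) :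
    Nat.card C ≤ 2 * Nat.card ↥(C ⊓ centralizer {a}) := by
  classical
  haveI := X.fin
  haveI : Finite C := Finite.of_injective _ (inclusion_injective hC)
  haveI : Finite ↥(C ⊓ centralizer {a}) := Finite.of_injective _ (inclusion_injective (inf_le_left : C ⊓ centralizer {a} ≤ C))
  by_cases hall : ∀ r ∈ C, r * a = a * r
  · rw [show C ⊓ centralizer {a} = C from inf_eq_left.2 fun r hr => mem_centralizer_singleton_iff.2 (hall r hr)]
    omega
  push Not at hall
  obtain ⟨w, hw, hwa⟩ := hall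
  have hw' : w * a = -(a * w) := (X.comm w (hC hw) a ha).resolve_left hwa
  have hmem : ∀ r : C, ¬ (r : GL ι F) * a = a * r → (r : GL ι F) * w ∈ C ⊓ centralizer {a} := fun r hr =>
    ⟨mul_mem r.2 hw, mem_centralizer_singleton_iff.2 (by
      have hr' := (X.comm r (hC r.2) a ha).resolve_left hr
      rw [mul_assoc, hw', mul_neg, ← mul_assoc, hr', neg_mul, neg_neg, mul_assoc])⟩
  let φ : C → Bool × ↥(C ⊓ centralizer {a}) := fun r =>
    if h : (r : GL ι F) * a = a * r then (false, ⟨r, r.2, mem_centralizer_singleton_iff.2 h⟩)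
    else (true, ⟨(r : GL ι F) * w, hmem r h⟩)
  have hφ : Function.Injective φ := fun r r' e => by
    by_cases h : (r : GL ι F) * a = a * r <;> by_cases h' : (r' : GL ι F) * a = a * r' <;>
      simp [φ, h, h'] at e
    · exact Subtype.ext (Subtype.mk.inj e)
    · exact e
  have := Nat.card_le_card_of_injective φ hφ
  rwa [Nat.card_prod, show Nat.card Bool = 2 by simp] at this

theorem shape {C : Subgroup (GL ι F)} (hC : C ≤ R) (h : ∀ x ∈ C, x * x = 1 → PM x 1) :
    ∃ a ∈ C, ∃ b ∈ C, ∀ x ∈ C, PM x 1 ∨ PM x a ∨ PM x b ∨ PM x (a * b) := by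
  have hsq : ∀ x ∈ C, ¬ PM x 1 → x * x = -1 := fun x hx hn => X.sq_neg (hC hx) fun e => hn (h x hx e)
  have hsame : ∀ x ∈ C, ∀ y ∈ C, ¬ PM x 1 → ¬ PM y 1 → x * y = y * x → PM x y := fun x hx y hy hnx hny hc => by
    have e : PM (x * y) 1 := h _ (mul_mem hx hy) (by
      rw [show x * y * (x * y) = x * (y * x) * y by group, ← hc, show x * (x * y) * y = x * x * (y * y) by group,
        hsq x hx hnx, hsq y hy hny, neg_mul_neg, one_mul])
    have e2 : y⁻¹ = -y := inv_eq_of_mul_eq_one_right (by rw [mul_neg, hsq y hy hny, neg_neg])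
    have := e.mul (PM.refl y⁻¹)
    rw [mul_inv_cancel_right, one_mul, e2] at this
    exact this.trans (PM.negl y)
  by_cases h1 : ∀ x ∈ C, PM x 1
  · exact ⟨1, one_mem C, 1, one_mem C, fun x hx => Or.inl (h1 x hx)⟩
  push Not at h1
  obtain ⟨a, ha, han⟩ := h1
  by_cases h2 : ∀ x ∈ C, x * a = a * x
  · refine ⟨a, ha, a, ha, fun x hx => ?_⟩
    by_cases hx1 : PM x 1
    · exact Or.inl hx1
    · exact Or.inr (Or.inl (hsame x hx a ha hx1 han (h2 x hx)))
  push Not at h2
  obtain ⟨b, hb, hba⟩ := h2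
  have hba' : b * a = -(a * b) := (X.comm b (hC hb) a (hC ha)).resolve_left hba
  have hbn : ¬ PM b 1 := fun e => hba (by rcases e with rfl | rfl <;> simp)
  refine ⟨a, ha, b, hb, fun x hx => ?_⟩
  by_cases hx1 : PM x 1
  · exact Or.inl hx1
  rcases X.comm x (hC hx) a (hC ha) with e | e
  · exact Or.inr (Or.inl (hsame x hx a ha hx1 han e))
  rcases X.comm x (hC hx) b (hC hb) with e' | e'
  · exact Or.inr (Or.inr (Or.inl (hsame x hx b hb hx1 hbn e')))
  refine Or.inr (Or.inr (Or.inr (hsame x hx _ (mul_mem ha hb) hx1 (fun e1 => ?_) ?_)))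
  · refine hba ?_
    have : PM b a⁻¹ := by
      have := (PM.refl a⁻¹).mul e1
      rwa [inv_mul_cancel_left, mul_one] at this
    rcases this with rfl | rfl <;> simp
  · rw [← mul_assoc, e, neg_mul, mul_assoc a x b, e', mul_neg, neg_neg, mul_assoc]

theorem small {C : Subgroup (GL ι F)} (hC : C ≤ R) (h : ∀ x ∈ C, x * x = 1 → PM x 1) : Nat.card C ≤ 8 := by
  classical
  obtain ⟨a, -, b, -, hs⟩ := X.shape hC h
  let L : List (GL ι F) := [1, -1, a, -a, b, -b, a * b, -(a * b)]
  have hmem : ∀ x : C, (x : GL ι F) ∈ L.toFinset := fun x => by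
    rw [List.mem_toFinset]
    rcases hs x x.2 with e | e | e | e <;> rcases e with e | e <;> rw [e] <;> simp [L]
  have := Nat.card_le_card_of_injective (fun x : C => (⟨x, hmem x⟩ : L.toFinset))
    (fun x y e => Subtype.ext (congrArg (fun u : L.toFinset => (u : GL ι F)) e))
  rw [Nat.card_eq_finsetCard] at this
  exact this.trans (List.toFinset_card_le L)

theorem exists_iz {C : Subgroup (GL ι F)} (hC : C ≤ R) (h : 8 < Nat.card C) : ∃ z ∈ C, IZ R z := by
  by_contra! hh
  have := X.small hC fun x hx e => by_contra fun hn => hh x hx ⟨hC hx, e, hn⟩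
  omega

theorem cent_two {a b : GL ι F} (ha : a ∈ R) (hb : b ∈ R) :
    32 ≤ Nat.card ↥(R ⊓ centralizer {a} ⊓ centralizer {b}) := by
  have h1 := X.half le_rfl ha
  have h2 := X.half (inf_le_left : R ⊓ centralizer {a} ≤ R) hb
  have := X.order
  omega

/-- A non-central involution anticommuting with a given non-central element. -/
theorem exists_iz_anti {e : GL ι F} (he : e ∈ R) (hn : ¬ PM e 1) : ∃ w, IZ R w ∧ w * e = -(e * w) := by
  have hiz : ∀ w ∈ R, w * w = 1 → w * e = -(e * w) → IZ R w := fun w hw hw1 hwe => ⟨hw, hw1, fun h => by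
    rcases h with rfl | rfl <;> simp at hwe <;> first | exact X.ne_neg _ hwe | exact X.ne_neg _ hwe.symm⟩
  obtain ⟨g, hg, hge⟩ := X.anti he hn
  by_cases hg2 : g * g = 1
  · exact ⟨g, hiz g hg hg2 hge, hge⟩
  have hg2' := X.sq_neg hg hg2
  obtain ⟨k, hk, hk2⟩ : ∃ k ∈ R ⊓ centralizer {e} ⊓ centralizer {g}, k * k ≠ 1 := by
    by_contra! hh
    have := X.elem _ (inf_le_left.trans inf_le_left) hh
    have := X.half le_rfl he
    have := X.half (inf_le_left : R ⊓ centralizer {e} ≤ R) hg
    omega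
  obtain ⟨⟨hkR, hke⟩, hkg⟩ := hk
  have hke := mem_centralizer_singleton_iff.1 hke
  have hkg := mem_centralizer_singleton_iff.1 hkg
  have h2 : g * k * (g * k) = 1 := by
    rw [show g * k * (g * k) = g * (k * g) * k by group, hkg, show g * (g * k) * k = g * g * (k * k) by group,
      hg2', X.sq_neg hkR hk2, neg_mul_neg, one_mul]
  have h3 : g * k * e = -(e * (g * k)) := by
    rw [mul_assoc, hke, ← mul_assoc, hge, neg_mul, mul_assoc]
  exact ⟨g * k, hiz _ (mul_mem hg hkR) h2 h3, h3⟩

/-- The commutator with `f` has fibres the cosets of the centraliser. -/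
theorem card_le_fibre (f : GL ι F) {S : Type*} [Finite S] (j : R → S)
    (hj : ∀ r s : R, j r = j s → (r : GL ι F) * f * (r : GL ι F)⁻¹ = s * f * (s : GL ι F)⁻¹) :
    Nat.card R ≤ Nat.card ↥(R ⊓ centralizer {f}) * Nat.card S := by
  classical
  haveI := X.fin
  haveI : Finite ↥(R ⊓ centralizer {f}) :=
    Finite.of_injective _ (inclusion_injective (inf_le_left : R ⊓ centralizer {f} ≤ R))
  let pick : S → R := fun x => if h : ∃ r, j r = x then h.choose else 1
  have hpick : ∀ r, j (pick (j r)) = j r := fun r => by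
    have hx : ∃ s, j s = j r := ⟨r, rfl⟩
    simp only [pick, dif_pos hx]
    exact hx.choose_spec
  let φ : R → ↥(R ⊓ centralizer {f}) × S := fun r => (⟨(pick (j r) : GL ι F)⁻¹ * r,
    mul_mem (inv_mem (pick (j r)).2 : (pick (j r) : GL ι F)⁻¹ ∈ R) r.2, mem_centralizer_singleton_iff.2 (by
      have he := hj _ _ (hpick r)
      set w : GL ι F := ((pick (j r) : R) : GL ι F)
      calc w⁻¹ * r * f = w⁻¹ * (r * f * (r : GL ι F)⁻¹) * r := by group
        _ = f * (w⁻¹ * r) := by rw [← he]; group)⟩, j r)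
  have hφ : Function.Injective φ := fun r r' e => by
    simp only [φ, Prod.mk.injEq] at e
    obtain ⟨e1, e2⟩ := e
    have e3 := congrArg (fun u : ↥(R ⊓ centralizer {f}) => (u : GL ι F)) e1
    simp only [e2] at e3
    exact Subtype.ext (mul_left_cancel e3)
  have := Nat.card_le_card_of_injective φ hφ
  rwa [Nat.card_prod] at this

/-- An element of the normaliser with scalar square commutes with a non-central involution up to sign, and
exactly if it is an involution. -/
theorem exists_iz_norm {f : GL ι F} (hf : f ∈ normalizer (R : Set (GL ι F))) (hf2 : PM (f * f) 1) :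
    ∃ z, IZ R z ∧ PM (z * f * z⁻¹) f ∧ (f * f = 1 → z * f = f * z) := by
  classical
  haveI := X.fin
  let C := R ⊓ centralizer {f}
  let P : Subgroup (GL ι F) :=
    { carrier := {r | r ∈ R ∧ PM (r * f * r⁻¹) f}
      one_mem' := ⟨one_mem R, by simp [PM.refl]⟩
      mul_mem' := fun {r s} hr hs => ⟨mul_mem hr.1 hs.1, by
        rw [show r * s * f * (r * s)⁻¹ = r * (s * f * s⁻¹) * r⁻¹ by group]
        exact (hs.2.conj r).trans hr.2⟩
      inv_mem' := fun {r} hr => ⟨inv_mem hr.1, by
        have := (hr.2.conj r⁻¹).symm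
        rwa [show r⁻¹ * (r * f * r⁻¹) * r⁻¹⁻¹ = f by group] at this⟩ }
  have hPR : P ≤ R := fun r hr => hr.1
  by_cases hex : ∃ z ∈ C, IZ R z
  · obtain ⟨z, ⟨-, hz⟩, hzi⟩ := hex
    have hz' := mem_centralizer_singleton_iff.1 hz
    exact ⟨z, hzi, by rw [hz', mul_inv_cancel_right]; exact PM.refl f, fun _ => hz'⟩
  have hno : ∀ x ∈ C, x * x = 1 → PM x 1 := fun x hx e => by_contra fun hn => hex ⟨x, hx, hx.1, e, hn⟩
  have hC8 := X.small (inf_le_left : C ≤ R) hno
  haveI : Finite C := Finite.of_injective _ (inclusion_injective (inf_le_left : C ≤ R))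
  haveI : Finite P := Finite.of_injective _ (inclusion_injective hPR)
  -- the commutator map
  let τ : GL ι F → GL ι F := fun r => r * f * r⁻¹ * f⁻¹
  have hτR : ∀ r ∈ R, τ r ∈ R := fun r hr => by
    show r * f * r⁻¹ * f⁻¹ ∈ R
    rw [mul_assoc r f, mul_assoc r]
    exact mul_mem hr ((Subgroup.mem_normalizer_iff.1 hf _).1 (inv_mem hr))
  have hf2c : ∀ g, f * f * g = g * (f * f) := fun g => by rcases hf2 with e | e <;> rw [e] <;> simp
  have hτi : ∀ r, f * τ r * f⁻¹ = (τ r)⁻¹ := fun r => by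
    calc f * (r * f * r⁻¹ * f⁻¹) * f⁻¹ = f * r * f * r⁻¹ * (f * f)⁻¹ := by group
      _ = f * r * f⁻¹ * ((f * f) * r⁻¹) * (f * f)⁻¹ := by group
      _ = f * r * f⁻¹ * (r⁻¹ * (f * f)) * (f * f)⁻¹ := by rw [hf2c]
      _ = _ := by simp only [τ]; group
  have hτP : ∀ r ∈ R, τ r ∈ P := fun r hr => by
    refine ⟨hτR r hr, ?_⟩
    have h1 : τ r * f * (τ r)⁻¹ = τ r * τ r * f := by
      conv_lhs => rw [← hτi r]
      rw [show τ r * f * (f * τ r * f⁻¹) = τ r * (f * f * τ r) * f⁻¹ by group, hf2c]
      group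
    rw [h1]
    have := (X.sq _ (hτR r hr)).mul (PM.refl f)
    rwa [one_mul] at this
  -- fibres
  have hcard : Nat.card R ≤ Nat.card C * Nat.card P :=
    X.card_le_fibre f (fun r => (⟨τ r, hτP r r.2⟩ : P)) fun r s e => mul_right_cancel (congrArg Subtype.val e)
  have hP8 : 8 < Nat.card P := by
    by_contra hle
    have := X.order
    nlinarith
  obtain ⟨z, hzP, hz⟩ := X.exists_iz hPR hP8
  refine ⟨z, hz, hzP.2, fun hff => ?_⟩
  -- for an involution the commutators fill `P`, so `C` would consist of involutions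
  rcases hzP.2 with e | e
  · exact mul_inv_eq_iff_eq_mul.1 e
  exfalso
  have hPC : Nat.card P ≤ 2 * Nat.card C := by
    let ψ : P → Bool × C := fun r => if h : (r : GL ι F) * f = f * r then (false, ⟨r, r.2.1, mem_centralizer_singleton_iff.2 h⟩)
      else (true, ⟨(r : GL ι F) * z, mul_mem r.2.1 hz.1, mem_centralizer_singleton_iff.2 (by
        have h1 : (r : GL ι F) * f = -(f * r) := by
          rcases r.2.2 with e' | e'
          · exact absurd (mul_inv_eq_iff_eq_mul.1 e') h
          · rw [mul_inv_eq_iff_eq_mul.1 e', neg_mul]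
        have h2 : z * f = -(f * z) := by rw [mul_inv_eq_iff_eq_mul.1 e, neg_mul]
        rw [mul_assoc, h2, mul_neg, ← mul_assoc, h1, neg_mul, neg_neg, mul_assoc])⟩)
    have hψ : Function.Injective ψ := fun r r' e => by
      by_cases h : (r : GL ι F) * f = f * r <;> by_cases h' : (r' : GL ι F) * f = f * r' <;>
        simp [ψ, h, h'] at e
      · exact Subtype.ext (Subtype.mk.inj e)
      · exact Subtype.ext (mul_right_cancel (Subtype.mk.inj e))
    have := Nat.card_le_card_of_injective ψ hψ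
    rwa [Nat.card_prod, show Nat.card Bool = 2 by simp] at this
  obtain ⟨a, haC, han⟩ : ∃ a ∈ C, ¬ PM a 1 := by
    by_contra! hall
    have hle : Nat.card C ≤ 2 := by
      let η : C → Bool := fun x => decide ((x : GL ι F) = 1)
      refine (Nat.card_le_card_of_injective η fun x y e => Subtype.ext ?_).trans (by simp)
      have e' : (x : GL ι F) = 1 ↔ (y : GL ι F) = 1 := decide_eq_decide.1 e
      rcases hall x x.2 with hx | hx <;> rcases hall y y.2 with hy | hy
      · rw [hx, hy]
      · exact absurd ((e'.1 hx).symm.trans hy) X.one_ne_neg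
      · exact absurd ((e'.2 hy).symm.trans hx) X.one_ne_neg
      · rw [hx, hy]
    have := X.order
    nlinarith
  -- `a` is not inverted by `f`
  have hlt : Nat.card R < Nat.card C * Nat.card P := by
    by_contra hle
    obtain ⟨r, hr, hra⟩ : ∃ r ∈ R, τ r = a := by
      by_contra! hna
      let S := {x : P // (x : GL ι F) ≠ a}
      have haP : a ∈ P := ⟨haC.1, by
        rw [mem_centralizer_singleton_iff.1 haC.2, mul_inv_cancel_right]; exact PM.refl f⟩
      have h1 := X.card_le_fibre f (fun r => (⟨⟨τ r, hτP r r.2⟩, hna r r.2⟩ : S)) fun r s e =>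
        mul_right_cancel (congrArg (fun u : S => ((u : P) : GL ι F)) e)
      have h2 : Nat.card S < Nat.card P := by
        haveI := Fintype.ofFinite P
        rw [Nat.card_eq_fintype_card, Nat.card_eq_fintype_card]
        exact Fintype.card_subtype_lt (x := ⟨a, haP⟩) (by simp)
      have h3 := Nat.mul_lt_mul_of_pos_left h2 (Nat.card_pos (α := C))
      change Nat.card R ≤ Nat.card C * Nat.card S at h1
      omega
    have h1 := hτi r
    rw [hra, ← mem_centralizer_singleton_iff.1 haC.2, mul_inv_cancel_right] at h1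
    exact han (hno a haC (mul_eq_one_iff_eq_inv.2 h1))
  have := X.order
  nlinarith

end Ext

end CfsgLib.MaxSub.Extra
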