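import Cfsg.Agent.Lib.MaxSub.Extra.Unique

/-!
Fusion of non-central involutions: if the centralisers of involutions of `R` in the overgroup normalise `R` and
contain the elements acting as an element of `R` on one eigenspace and trivially on the other, then every
involution of `R` fuses only inside `R`.
-/

set_option autoImplicit false

namespace CfsgLib.MaxSub.Extra

open Matrix Subgroup

variable {F : Type*} [Field F] {ι : Type} [Fintype ι] [DecidableEq ι]

local notation "M" => Matrix ι ι F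

/-- `1 + z`, twice the projection to the fixed space. -/
def plus (z : GL ι F) : Matrix ι ι F := 1 + (z : Matrix ι ι F)

/-- `1 - z`, twice the projection to the negated space. -/
def minus (z : GL ι F) : Matrix ι ι F := 1 - (z : Matrix ι ι F)

/-- The local hypotheses on the overgroup. -/
structure Loc (R H : Subgroup (GL ι F)) : Prop where
  sub : R ≤ H
  cent : ∀ z, IZ R z → ∀ h ∈ H, h * z = z * h → h ∈ normalizer (R : Set (GL ι F))
  root : ∀ z, IZ R z → ∀ g ∈ R, g * z = z * g → ∃ x ∈ H, x * z = z * x ∧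
    (x : M) * plus z = (g : M) * plus z ∧ (x : M) * minus z = minus z
  pair : ∀ z, IZ R z → ∀ z' ∈ H, z' ∈ normalizer (R : Set (GL ι F)) → z' * z' = 1 → z' * z = z * z' →
    ∃ g₁ ∈ R, ∃ g₂ ∈ R, g₁ * z = z * g₁ ∧ g₂ * z = z * g₂ ∧ g₁ * g₂ = -(g₂ * g₁) ∧
      (g₁ : M) * z' * plus z = (z' : M) * g₁ * plus z ∧ (g₂ : M) * z' * plus z = (z' : M) * g₂ * plus z

/-- The local hypotheses without the pairs. -/
structure Loc0 (R H : Subgroup (GL ι F)) : Prop where
  sub : R ≤ H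
  cent : ∀ z, IZ R z → ∀ h ∈ H, h * z = z * h → h ∈ normalizer (R : Set (GL ι F))
  root : ∀ z, IZ R z → ∀ g ∈ R, g * z = z * g → ∃ x ∈ H, x * z = z * x ∧
    (x : M) * plus z = (g : M) * plus z ∧ (x : M) * minus z = minus z

theorem Loc.loc0 {R H : Subgroup (GL ι F)} (L : Loc R H) : Loc0 R H := ⟨L.sub, L.cent, L.root⟩

theorem plus_comm {z g : GL ι F} (h : g * z = z * g) :
    (g : M) * plus z = plus z * g ∧ (g : M) * minus z = minus z * g := by
  have e : (g : M) * z = z * g := congrArg Units.val h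
  simp [plus, minus, Matrix.mul_add, Matrix.add_mul, Matrix.mul_sub, Matrix.sub_mul, e]

theorem plus_anti {z r : GL ι F} (h : r * z = -(z * r)) :
    (r : M) * plus z = minus z * r ∧ (r : M) * minus z = plus z * r := by
  have e : (r : M) * z = -((z : M) * r) := congrArg Units.val h
  simp [plus, minus, Matrix.mul_add, Matrix.add_mul, Matrix.mul_sub, Matrix.sub_mul, e, ← sub_eq_add_neg]

theorem plus_ne_zero {R : Subgroup (GL ι F)} {z : GL ι F} (hz : IZ R z) : plus z ≠ 0 := fun e =>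
  hz.2.2 (Or.inr (Units.ext (by rw [Units.val_neg, Units.val_one]; exact eq_neg_of_add_eq_zero_right e)))

theorem minus_plus {z : GL ι F} (hz : z * z = 1) : minus z * plus z = 0 ∧ plus z * minus z = 0 := by
  have e : (z : M) * z = 1 := congrArg Units.val hz
  simp [plus, minus, Matrix.mul_add, Matrix.add_mul, Matrix.mul_sub, Matrix.sub_mul, e] <;> abel

/-- Agreement on the fixed space of `z`. -/
def Ag (z a b : GL ι F) : Prop := (a : M) * plus z = (b : M) * plus z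

namespace Ag

variable {z a b a' b' : GL ι F}

theorem mul (h : Ag z a b) (h' : Ag z a' b') (hb : b' * z = z * b') : Ag z (a * a') (b * b') := by
  unfold Ag at *
  rw [Units.val_mul, Units.val_mul, Matrix.mul_assoc, h', (plus_comm hb).1, ← Matrix.mul_assoc, h, Matrix.mul_assoc,
    ← (plus_comm hb).1, ← Matrix.mul_assoc]

theorem inv (h : Ag z a b) (hb : b * z = z * b) : Ag z a⁻¹ b⁻¹ := by
  unfold Ag at *
  have hbi : b⁻¹ * z = z * b⁻¹ := (Commute.inv_left (show Commute b z from hb)).eq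
  calc (a⁻¹ : GL ι F).1 * plus z = (a⁻¹ : GL ι F).1 * (plus z * b.1) * (b⁻¹ : GL ι F).1 := by
        rw [Matrix.mul_assoc, Matrix.mul_assoc, Units.mul_inv, Matrix.mul_one]
    _ = plus z * (b⁻¹ : GL ι F).1 := by
        rw [← (plus_comm hb).1, ← h, ← Matrix.mul_assoc, Units.inv_mul, Matrix.one_mul]
    _ = _ := (plus_comm hbi).1.symm

theorem eq (h : Ag z a b) (h' : Ag (-z) a b) (h2 : (2 : F) ≠ 0) : a = b := by
  refine Units.ext ?_
  have e : (a : M) * (plus z + plus (-z)) = (b : M) * (plus z + plus (-z)) := by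
    rw [Matrix.mul_add, Matrix.mul_add, h, h']
  rw [show plus z + plus (-z) = (2 : F) • (1 : M) by rw [plus, plus, Units.val_neg, two_smul]; abel,
    Matrix.mul_smul, Matrix.mul_smul, Matrix.mul_one, Matrix.mul_one] at e
  exact smul_right_injective _ h2 e

theorem refl (a : GL ι F) : Ag z a a := Eq.refl _

end Ag

theorem plus_neg (z : GL ι F) : plus (-z) = minus z := by
  rw [plus, minus, Units.val_neg, sub_eq_add_neg]

namespace Ext

variable {R : Subgroup (GL ι F)} (X : Ext R)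
include X

theorem iz_neg {z : GL ι F} (hz : IZ R z) : IZ R (-z) :=
  ⟨X.mem_pm (PM.negl z) hz.1, by rw [neg_mul_neg, hz.2.1], fun h => hz.2.2 ((PM.negl z).symm.trans h)⟩

theorem iz_trace {z : GL ι F} (hz : IZ R z) : (z : M).trace = 0 := by
  obtain ⟨r, -, hr⟩ := X.anti hz.1 hz.2.2
  have h1 : ((r : M) * z * (r⁻¹ : GL ι F).1).trace = (z : M).trace := by
    rw [Matrix.trace_mul_comm, ← Matrix.mul_assoc, Units.inv_mul, Matrix.one_mul]
  rw [show (r : M) * z = -((z : M) * r) from congrArg Units.val hr, Matrix.neg_mul, Matrix.mul_assoc, Units.mul_inv,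
    Matrix.mul_one, Matrix.trace_neg] at h1
  exact mul_left_cancel₀ X.two (by rw [mul_zero]; linear_combination -h1)

/-- An involution of the normaliser with zero trace anticommutes with an element of `R`. -/
theorem exists_anti_norm {a : GL ι F} (ha : a ∈ normalizer (R : Set (GL ι F))) (haa : a * a = 1)
    (ht : (a : M).trace = 0) : ∃ r ∈ R, r * a = -(a * r) := by
  classical
  by_contra! hno
  haveI := X.fin
  haveI := Fintype.ofFinite R
  set p : R → GL ι F := fun r => (r : GL ι F) * a * (r : GL ι F)⁻¹ * a with hp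
  have hai : a⁻¹ = a := inv_eq_of_mul_eq_one_right haa
  have hpR : ∀ r : R, p r ∈ R := fun r => by
    show (r : GL ι F) * a * (r : GL ι F)⁻¹ * a ∈ R
    rw [mul_assoc (r : GL ι F) a, mul_assoc (r : GL ι F)]
    refine mul_mem r.2 ?_
    nth_rw 2 [← hai]
    exact (Subgroup.mem_normalizer_iff.1 ha _).1 (inv_mem r.2)
  have htr : ∀ r : R, (p r : M).trace = if (r : GL ι F) * a = a * r then (Fintype.card ι : F) else 0 := fun r => by
    split
    · next h => simp [hp, h, haa, Matrix.trace_one]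
    · next h =>
      have hn : ¬ PM (p r) 1 := fun e => by
        have e2 := (e.mul (PM.refl a)).mul (PM.refl (r : GL ι F))
        rw [one_mul, hp, show (r : GL ι F) * a * (r : GL ι F)⁻¹ * a * a * r = (r : GL ι F) * a * (r : GL ι F)⁻¹ * (a * a) * r by group,
          haa, mul_one, inv_mul_cancel_right] at e2
        rcases e2 with e2 | e2
        · exact h e2
        · exact hno r r.2 e2
      obtain ⟨q, -, hq⟩ := X.anti (hpR r) hn
      have h1 : ((q : M) * (p r : M) * (q⁻¹ : GL ι F).1).trace = (p r : M).trace := by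
        rw [Matrix.trace_mul_comm, ← Matrix.mul_assoc, Units.inv_mul, Matrix.one_mul]
      rw [show (q : M) * (p r : M) = -((p r : M) * q) from congrArg Units.val hq, Matrix.neg_mul, Matrix.mul_assoc,
        Units.mul_inv, Matrix.mul_one, Matrix.trace_neg] at h1
      exact mul_left_cancel₀ X.two (by rw [mul_zero]; linear_combination -h1)
  set S : M := ∑ r : R, ((r : GL ι F) : M) * a * ((r : GL ι F)⁻¹ : GL ι F).1 with hS
  obtain ⟨c, hc⟩ := X.irr S fun s hs => by
    have e : (s : M) * S * (s⁻¹ : GL ι F).1 = S := by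
      rw [hS, Finset.mul_sum, Finset.sum_mul]
      refine Fintype.sum_equiv (Equiv.mulLeft ⟨s, hs⟩) _ _ fun r => ?_
      show _ = ((s * (r : GL ι F) : GL ι F) : M) * a * ((s * (r : GL ι F))⁻¹ : GL ι F).1
      simp [Matrix.mul_assoc]
    calc S * s = (s : M) * S * (s⁻¹ : GL ι F).1 * s := by rw [e]
      _ = _ := by rw [Matrix.mul_assoc, Units.inv_mul, Matrix.mul_one]
  have hS0 : S = 0 := by
    have e : S.trace = 0 := by
      rw [hS, Matrix.trace_sum]
      refine Finset.sum_eq_zero fun r _ => ?_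
      rw [Matrix.trace_mul_comm, ← Matrix.mul_assoc, Units.inv_mul, Matrix.one_mul, ht]
    rw [hc, Matrix.trace_smul, Matrix.trace_one, smul_eq_mul, mul_eq_zero] at e
    rw [hc, e.resolve_right X.ncard, zero_smul]
  have e0 : (∑ r : R, (p r : M).trace) = 0 := by
    have e : ∑ r : R, (p r : M) = S * a := by
      rw [hS, Finset.sum_mul]
      rfl
    rw [← Matrix.trace_sum, e, hS0, Matrix.zero_mul, Matrix.trace_zero]
  simp only [htr, Finset.sum_ite, Finset.sum_const_zero, add_zero, Finset.sum_const, nsmul_eq_mul, mul_eq_zero] at e0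
  refine e0.elim (fun e1 => ?_) X.ncard
  -- the centraliser is a two-group
  have hC : IsPGroup 2 ↥(R ⊓ centralizer {a}) := fun x => ⟨2, Subtype.ext (by
    rcases X.sq _ x.2.1 with e | e <;>
      simp [pow_succ, pow_zero, mul_assoc, ← mul_assoc (x : GL ι F) x, e])⟩
  haveI : Finite ↥(R ⊓ centralizer {a}) :=
    Finite.of_injective _ (inclusion_injective (inf_le_left : R ⊓ centralizer {a} ≤ R))
  obtain ⟨k, hk⟩ := IsPGroup.iff_card.1 hC
  have hcard : (Finset.univ.filter fun r : R => (r : GL ι F) * a = a * r).card = 2 ^ k := by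
    rw [← hk, ← Fintype.card_subtype, ← Nat.card_eq_fintype_card]
    exact Nat.card_congr ⟨fun r => ⟨r.1, r.1.2, mem_centralizer_singleton_iff.2 r.2⟩,
      fun r => ⟨⟨r.1, r.2.1⟩, mem_centralizer_singleton_iff.1 r.2.2⟩, fun r => rfl, fun r => rfl⟩
  rw [hcard, Nat.cast_pow, Nat.cast_ofNat] at e1
  exact pow_ne_zero k X.two e1

theorem cent_all {z q : GL ι F} (hz : IZ R z) (hq : q ∈ R)
    (h : ∀ r ∈ R, r * z = z * r → r * q = q * r) : PM q 1 ∨ PM q z := by
  obtain ⟨r₀, hr₀, hr₀z⟩ := X.anti hz.1 hz.2.2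
  have hqz : q * z = z * q := (h z hz.1 rfl).symm
  obtain ⟨q', hq', hq'r, hqq, hq'z⟩ : ∃ q', q' ∈ R ∧ r₀ * q' = q' * r₀ ∧ (q = q' ∨ q = q' * z) ∧
      ∀ r ∈ R, r * z = z * r → r * q' = q' * r := by
    rcases X.comm r₀ hr₀ q hq with e | e
    · exact ⟨q, hq, e, Or.inl rfl, h⟩
    · refine ⟨q * z, mul_mem hq hz.1, ?_, Or.inr (by rw [mul_assoc, hz.2.1, mul_one]), fun r hr hrz => ?_⟩
      · rw [← mul_assoc, e, neg_mul, mul_assoc, hr₀z, mul_neg, neg_neg, mul_assoc]
      · rw [← mul_assoc, h r hr hrz, mul_assoc, hrz, mul_assoc]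
  have hc := X.central q' hq' fun y hy => by
    rcases X.comm y hy z hz.1 with e | e
    · exact (hq'z y hy e).symm
    · have e2 := hq'z (y * r₀) (mul_mem hy hr₀) (by
        rw [mul_assoc, hr₀z, mul_neg, ← mul_assoc, e, neg_mul, neg_neg, mul_assoc])
      rw [mul_assoc, hq'r, ← mul_assoc, ← mul_assoc] at e2
      exact (mul_right_cancel e2).symm
  rcases hqq with rfl | rfl
  · exact Or.inl hc
  · exact Or.inr (by have := hc.mul (PM.refl z); rwa [one_mul] at this)

theorem agree_cases {z q : GL ι F} (hz : IZ R z) (hq : q ∈ R) (hqz : q * z = z * q) {d : F} (hd : d ≠ 0)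
    (h : (q : M) * plus z = d • plus z) : PM q 1 ∨ PM q z := by
  refine X.cent_all hz hq fun r hr hrz => (X.comm r hr q hq).resolve_right fun e => plus_ne_zero hz ?_
  have e1 : (r : M) * q * plus z = d • ((r : M) * plus z) := by rw [Matrix.mul_assoc, h, Matrix.mul_smul]
  have e2 : (q : M) * r * plus z = d • ((r : M) * plus z) := by
    rw [Matrix.mul_assoc, (plus_comm hrz).1, ← Matrix.mul_assoc, h, Matrix.smul_mul, ← (plus_comm hrz).1]
  have e3 : ((r * q : GL ι F) : M) = -(((q * r : GL ι F) : M)) := congrArg Units.val e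
  rw [Units.val_mul, Units.val_mul] at e3
  rw [e3, Matrix.neg_mul, e2] at e1
  have h4 : ((2 : F) * d) • ((r : M) * plus z) = 0 := by rw [mul_smul, two_smul]; nth_rw 1 [← e1]; exact neg_add_cancel _
  have h5 := (smul_eq_zero.1 h4).resolve_left (mul_ne_zero X.two hd)
  have h6 := congrArg (fun y => (r⁻¹ : GL ι F).1 * y) h5
  simpa [← Matrix.mul_assoc] using h6

/-- An involution centralising `z` and anticommuting with `g`. -/
theorem exists_iz_anti_cent {z g : GL ι F} (hz : IZ R z) (hg : g ∈ R) (hgz : g * z = z * g) (hn : ¬ PM g 1)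
    (hn' : ¬ PM g z) : ∃ q, IZ R q ∧ q * z = z * q ∧ q * g = -(g * q) := by
  obtain ⟨r, hr, hrz, hrg⟩ : ∃ r ∈ R, r * z = z * r ∧ r * g = -(g * r) := by
    by_contra! hh
    rcases X.cent_all hz hg fun r hr hrz => (X.comm r hr g hg).resolve_right (hh r hr hrz) with e | e
    · exact hn e
    · exact hn' e
  have hiz : ∀ w ∈ R, w * w = 1 → w * g = -(g * w) → IZ R w := fun w hw hw1 hwe => ⟨hw, hw1, fun h => by
    rcases h with rfl | rfl <;> simp at hwe <;> first | exact X.ne_neg _ hwe | exact X.ne_neg _ hwe.symm⟩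
  by_cases hr2 : r * r = 1
  · exact ⟨r, hiz r hr hr2 hrg, hrz, hrg⟩
  obtain ⟨k, hk, hk2⟩ : ∃ k ∈ R ⊓ centralizer {z} ⊓ centralizer {g} ⊓ centralizer {r}, k * k ≠ 1 := by
    by_contra! hh
    have := X.elem _ (inf_le_left.trans (inf_le_left.trans inf_le_left)) hh
    have := X.half le_rfl hz.1
    have := X.half (inf_le_left : R ⊓ centralizer {z} ≤ R) hg
    have := X.half (inf_le_left.trans inf_le_left : R ⊓ centralizer {z} ⊓ centralizer {g} ≤ R) hr
    omega
  obtain ⟨⟨⟨hkR, hkz⟩, hkg⟩, hkr⟩ := hk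
  replace hkR : k ∈ R := hkR
  have hkz := mem_centralizer_singleton_iff.1 hkz
  have hkg := mem_centralizer_singleton_iff.1 hkg
  have hkr := mem_centralizer_singleton_iff.1 hkr
  have h2 : r * k * (r * k) = 1 := by
    rw [show r * k * (r * k) = r * (k * r) * k by group, hkr, show r * (r * k) * k = r * r * (k * k) by group,
      X.sq_neg hr hr2, X.sq_neg hkR hk2, neg_mul_neg, one_mul]
  have h3 : r * k * g = -(g * (r * k)) := by
    rw [mul_assoc, hkg, ← mul_assoc, hrg, neg_mul, mul_assoc]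
  exact ⟨r * k, hiz _ (mul_mem hr hkR) h2 h3, by rw [mul_assoc, hkz, ← mul_assoc, hrz, mul_assoc], h3⟩

theorem conj (h : GL ι F) : Ext (R.map (MulAut.conj h).toMonoidHom) := by
  have hmem : ∀ x, x ∈ R.map (MulAut.conj h).toMonoidHom → ∃ y ∈ R, x = h * y * h⁻¹ := fun x hx => by
    obtain ⟨y, hy, rfl⟩ := hx
    exact ⟨y, hy, rfl⟩
  haveI := X.fin
  refine ⟨X.two, X.ncard, ?_, ⟨-1, X.neg, by simp [mul_neg, neg_mul]⟩, ?_, ?_, ?_, ?_, ?_, ?_⟩
  · exact Finite.of_equiv _ (R.equivMapOfInjective (MulAut.conj h).toMonoidHom (MulAut.conj h).injective).toEquiv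
  · intro x hx y hy
    obtain ⟨a, ha, rfl⟩ := hmem x hx
    obtain ⟨b, hb, rfl⟩ := hmem y hy
    rcases X.comm a ha b hb with e | e
    · left
      rw [show h * a * h⁻¹ * (h * b * h⁻¹) = h * (a * b) * h⁻¹ by group, e]
      group
    · right
      rw [show h * a * h⁻¹ * (h * b * h⁻¹) = h * (a * b) * h⁻¹ by group, e, mul_neg, neg_mul]
      congr 1
      group
  · intro x hx
    obtain ⟨a, ha, rfl⟩ := hmem x hx
    have := (X.sq a ha).conj h
    rw [mul_one, mul_inv_cancel] at this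
    rwa [show h * a * h⁻¹ * (h * a * h⁻¹) = h * (a * a) * h⁻¹ by group]
  · intro x hx hc
    obtain ⟨a, ha, rfl⟩ := hmem x hx
    have := (X.central a ha fun b hb => by
      have e := hc (h * b * h⁻¹) ⟨b, hb, rfl⟩
      rw [show h * a * h⁻¹ * (h * b * h⁻¹) = h * (a * b) * h⁻¹ by group,
        show h * b * h⁻¹ * (h * a * h⁻¹) = h * (b * a) * h⁻¹ by group] at e
      exact mul_left_cancel (mul_right_cancel e)).conj h
    rwa [mul_one, mul_inv_cancel] at this
  · intro A hA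
    obtain ⟨c, hc⟩ := X.irr ((h⁻¹ : GL ι F).1 * A * h.1) fun s hs => by
      have e := hA (h * s * h⁻¹) ⟨s, hs, rfl⟩
      have e2 := congrArg (fun y => (h⁻¹ : GL ι F).1 * y * h.1) e
      simp only [Units.val_mul, ← Matrix.mul_assoc, Units.inv_mul, Matrix.one_mul, Units.inv_mul_cancel_right] at e2
      simpa [Matrix.mul_assoc] using e2
    refine ⟨c, ?_⟩
    have e2 := congrArg (fun y => h.1 * y * (h⁻¹ : GL ι F).1) hc
    simpa [← Matrix.mul_assoc] using e2
  · intro C hC hinv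
    have e : C = (C.comap (MulAut.conj h).toMonoidHom).map (MulAut.conj h).toMonoidHom :=
      (map_comap_eq_self_of_surjective (MulAut.conj h).surjective C).symm
    have hle : C.comap (MulAut.conj h).toMonoidHom ≤ R := fun y hy => by
      obtain ⟨a, ha, e⟩ := hC hy
      rwa [← (MulAut.conj h).injective e]
    have := X.elem _ hle fun y hy => by
      have e1 := hinv _ hy
      exact (MulAut.conj h).injective (by rw [map_mul, map_one]; exact e1)
    rw [Nat.card_congr (Subgroup.equivMapOfInjective R (MulAut.conj h).toMonoidHom (MulAut.conj h).injective).toEquiv] at this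
    rwa [e, Nat.card_congr (Subgroup.equivMapOfInjective _ (MulAut.conj h).toMonoidHom (MulAut.conj h).injective).toEquiv.symm]
  · rw [← Nat.card_congr (Subgroup.equivMapOfInjective R (MulAut.conj h).toMonoidHom (MulAut.conj h).injective).toEquiv]
    exact X.order

end Ext

variable {R R' H : Subgroup (GL ι F)}

/-- Commutator of a root element with an element exchanging the eigenspaces. -/
theorem root_comm {z g r x : GL ι F} (hzz : z * z = 1) (hgz : g * z = z * g) (hxz : x * z = z * x)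
    (hxu : Ag z x g) (hxv : Ag (-z) x 1) (hrz : r * z = -(z * r)) :
    (x * r * x⁻¹ * r⁻¹) * z = z * (x * r * x⁻¹ * r⁻¹) ∧ Ag z (x * r * x⁻¹ * r⁻¹) g ∧
      Ag (-z) (x * r * x⁻¹ * r⁻¹) (r * g⁻¹ * r⁻¹) := by
  have hc : ∀ y, y * z = z * y → (r * y * r⁻¹) * z = z * (r * y * r⁻¹) := fun y hy => by
    have e : r⁻¹ * z = -(z * r⁻¹) := by
      rw [← mul_left_inj r, neg_mul, mul_assoc z, inv_mul_cancel, mul_one, mul_assoc,
        show z * r = -(r * z) by rw [hrz, neg_neg], mul_neg, inv_mul_cancel_left]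
    rw [mul_assoc, e, mul_neg, ← mul_assoc, mul_assoc r y z, hy, ← mul_assoc, hrz, neg_mul, neg_mul, neg_neg,
      mul_assoc, mul_assoc, mul_assoc]
  have hxi : x⁻¹ * z = z * x⁻¹ := (Commute.inv_left (show Commute x z from hxz)).eq
  have hgi : g⁻¹ * z = z * g⁻¹ := (Commute.inv_left (show Commute g z from hgz)).eq
  have e : x * r * x⁻¹ * r⁻¹ = x * (r * x⁻¹ * r⁻¹) := by group
  have hconj : ∀ {a b : GL ι F} (w : GL ι F), r * w = -w * r → Ag w a b →
      Ag (-w) (r * a * r⁻¹) (r * b * r⁻¹) := fun {a b} w hw hab => by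
    unfold Ag at *
    have hri : ((r⁻¹ : GL ι F) : M) * plus (-w) = plus w * (r⁻¹ : GL ι F).1 := by
      have h1 := (plus_anti (z := w) (r := r) (by rw [hw, neg_mul])).1
      rw [← plus_neg] at h1
      calc ((r⁻¹ : GL ι F) : M) * plus (-w) = (r⁻¹ : GL ι F).1 * (plus (-w) * r.1) * (r⁻¹ : GL ι F).1 := by
            rw [Matrix.mul_assoc, Matrix.mul_assoc, Units.mul_inv, Matrix.mul_one]
        _ = _ := by rw [← h1, ← Matrix.mul_assoc, Units.inv_mul, Matrix.one_mul]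
    simp only [Units.val_mul, Matrix.mul_assoc, hri]
    rw [← Matrix.mul_assoc (a : M), hab, Matrix.mul_assoc]
  have h1 : Ag z (r * x⁻¹ * r⁻¹) 1 := by
    have := hconj (-z) (by rw [neg_neg, mul_neg, hrz, neg_neg]) (hxv.inv (by rw [one_mul, mul_one]))
    rw [neg_neg, inv_one, mul_one, mul_inv_cancel] at this
    exact this
  have h2 : Ag (-z) (r * x⁻¹ * r⁻¹) (r * g⁻¹ * r⁻¹) := hconj z (by rw [hrz, neg_mul]) (hxu.inv hgz)
  refine ⟨?_, ?_, ?_⟩
  · rw [e, mul_assoc, hc _ hxi, ← mul_assoc, hxz, mul_assoc]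
  · have := hxu.mul h1 (by rw [one_mul, mul_one])
    rwa [mul_one, ← e] at this
  · have := hxv.mul h2 (by rw [mul_neg, neg_mul, hc _ hgi])
    rwa [one_mul, ← e] at this

theorem root_ag (L : Loc0 R H) (X : Ext R) {z g : GL ι F} (hz : IZ R z) (hg : g ∈ R) (hgz : g * z = z * g) :
    ∃ x ∈ H, x * z = z * x ∧ Ag z x g ∧ Ag (-z) x 1 := by
  obtain ⟨x, hx, hxz, hu, hv⟩ := L.root z hz g hg hgz
  refine ⟨x, hx, hxz, hu, ?_⟩
  rw [Ag, plus_neg, hv, Units.val_one, Matrix.one_mul]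

theorem conj_norm {R : Subgroup (GL ι F)} {x r : GL ι F} (hx : x ∈ normalizer (R : Set (GL ι F))) (hr : r ∈ R) :
    x * r * x⁻¹ ∈ R :=
  (Subgroup.mem_normalizer_iff.1 hx _).1 hr

theorem transfer (L : Loc0 R H) (X : Ext R) (L' : Loc0 R' H) (X' : Ext R') {z g : GL ι F} (hz : IZ R z)
    (hz' : IZ R' z) (hg : g ∈ R) (hgz : g * z = z * g) : ∃ c ∈ R', c * z = z * c ∧ Ag z c g := by
  obtain ⟨x, hx, hxz, hu, hv⟩ := root_ag L X hz hg hgz
  obtain ⟨r, hr, hrz⟩ := X'.anti hz'.1 hz'.2.2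
  obtain ⟨h1, h2, -⟩ := root_comm hz.2.1 hgz hxz hu hv hrz
  exact ⟨_, mul_mem (conj_norm (L'.cent z hz' x hx hxz) hr) (inv_mem hr), h1, h2⟩

theorem canonical_step (L : Loc0 R H) (X : Ext R) (L' : Loc0 R' H) (X' : Ext R') {z : GL ι F} (hz : IZ R z)
    (hz' : IZ R' z) {g : GL ι F} (hg : g ∈ R) (hgz : g * z = z * g) : g ∈ R' := by
  obtain ⟨r, hr, hrz⟩ := X'.anti hz'.1 hz'.2.2
  obtain ⟨r₀, hr₀, hr₀z⟩ := X.anti hz.1 hz.2.2
  set m := r₀⁻¹ * r with hm
  have hr₀i : ∀ w, r₀ * w = -(w * r₀) → r₀⁻¹ * w = -(w * r₀⁻¹) := fun w hw => by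
    rw [← mul_left_inj r₀, neg_mul, mul_assoc w, inv_mul_cancel, mul_one, mul_assoc,
      show w * r₀ = -(r₀ * w) by rw [hw, neg_neg], mul_neg, inv_mul_cancel_left]
  have hmz : m * z = z * m := by
    rw [hm, mul_assoc, hrz, mul_neg, ← mul_assoc, hr₀i z hr₀z, neg_mul, neg_neg, mul_assoc]
  have hmH : m ∈ H := mul_mem (inv_mem (L.sub hr₀)) (L'.sub hr)
  have hmN := L.cent z hz m hmH hmz
  have hmi : m⁻¹ * z = z * m⁻¹ := (Commute.inv_left (show Commute m z from hmz)).eq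
  have hcz : ∀ {a}, a * z = z * a → (m * a * m⁻¹) * z = z * (m * a * m⁻¹) := fun {a} ha =>
    (((show Commute m z from hmz).mul_left ha).mul_left hmi).eq
  -- conjugation by `m` fixes the non-central involutions of the centraliser on the fixed space
  have hinvol : ∀ z₂, IZ R z₂ → z₂ * z = z * z₂ → ∃ d : F, d * d = 1 ∧
      ((m * z₂ * m⁻¹ : GL ι F) : M) * plus z = d • ((z₂ : M) * plus z) := by
    intro z₂ hz₂ h2z
    by_cases htriv : PM z₂ z
    · rcases htriv with rfl | rfl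
      · exact ⟨1, one_mul 1, by rw [hmz, mul_inv_cancel_right, one_smul]⟩
      · exact ⟨1, one_mul 1, by rw [mul_neg, neg_mul, hmz, mul_inv_cancel_right, one_smul]⟩
    obtain ⟨g₃, hg₃, hg₃s⟩ : ∃ g₃ ∈ R ⊓ centralizer {z} ⊓ centralizer {z₂}, g₃ * g₃ ≠ 1 := by
      by_contra! hh
      have := X.elem _ (inf_le_left.trans inf_le_left) hh
      have := X.half le_rfl hz.1
      have := X.half (inf_le_left : R ⊓ centralizer {z} ≤ R) hz₂.1
      omega
    obtain ⟨⟨hg₃R, hg₃z⟩, hg₃2⟩ := hg₃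
    replace hg₃R : g₃ ∈ R := hg₃R
    have hg₃z := mem_centralizer_singleton_iff.1 hg₃z
    have hg₃2 := mem_centralizer_singleton_iff.1 hg₃2
    have hg₃q := X.sq_neg hg₃R hg₃s
    obtain ⟨f, hf, hfz, hf2, hfg⟩ : ∃ f ∈ R, f * z = z * f ∧ f * z₂ = z₂ * f ∧ f * g₃ = -(g₃ * f) := by
      by_contra! hh
      obtain ⟨r₁, hr₁, hr₁2, hr₁z⟩ : ∃ r₁ ∈ R, r₁ * z₂ = z₂ * r₁ ∧ r₁ * z = -(z * r₁) := by
        by_contra! hh'
        rcases X.cent_all hz₂ hz.1 fun r hr h' => (X.comm r hr z hz.1).resolve_right (hh' r hr h') with e | e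
        · exact hz.2.2 e
        · exact htriv e.symm
      obtain ⟨q, hq, hqr, hqq, hqc⟩ : ∃ q, q ∈ R ∧ r₁ * q = q * r₁ ∧ (g₃ = q ∨ g₃ = q * z) ∧
          ∀ r ∈ R, r * z = z * r → r * z₂ = z₂ * r → r * q = q * r := by
        have hall : ∀ r ∈ R, r * z = z * r → r * z₂ = z₂ * r → r * g₃ = g₃ * r :=
          fun r hr h1 h2 => (X.comm r hr g₃ hg₃R).resolve_right (hh r hr h1 h2)
        rcases X.comm r₁ hr₁ g₃ hg₃R with e | e
        · exact ⟨g₃, hg₃R, e, Or.inl rfl, hall⟩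
        · refine ⟨g₃ * z, mul_mem hg₃R hz.1, ?_, Or.inr (by rw [mul_assoc, hz.2.1, mul_one]), fun r hr h1 h2 => ?_⟩
          · rw [← mul_assoc, e, neg_mul, mul_assoc, hr₁z, mul_neg, neg_neg, mul_assoc]
          · rw [← mul_assoc, hall r hr h1 h2, mul_assoc, h1, mul_assoc]
      have hfin := X.cent_all hz₂ hq fun r hr h2 => by
        rcases X.comm r hr z hz.1 with e | e
        · exact hqc r hr e h2
        · have e2 := hqc (r * r₁) (mul_mem hr hr₁) (by
            rw [mul_assoc, hr₁z, mul_neg, ← mul_assoc, e, neg_mul, neg_neg, mul_assoc]) (by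
            rw [mul_assoc, hr₁2, ← mul_assoc, h2, mul_assoc])
          rw [mul_assoc, hqr, ← mul_assoc, ← mul_assoc] at e2
          exact mul_right_cancel e2
      have hq2 : q * q = 1 := by
        rcases hfin with e | e
        · rw [e.sq, one_mul]
        · rw [e.sq, hz₂.2.1]
      rcases hqq with e | e
      · exact X.one_ne_neg (hq2.symm.trans (by rw [← e, hg₃q]))
      · refine X.one_ne_neg ?_
        have hqz : z * q = q * z := by
          rcases hfin with h' | h' <;> rcases h' with h' | h' <;> subst h' <;> simp [h2z]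
        calc (1 : GL ι F) = q * q * (z * z) := by rw [hq2, hz.2.1, one_mul]
          _ = q * (q * z) * z := by group
          _ = q * (z * q) * z := by rw [hqz]
          _ = q * z * (q * z) := by group
          _ = -1 := by rw [← e, hg₃q]
    obtain ⟨y, hyH, hy2, hyu, hyv⟩ := root_ag L X hz₂ hg₃R hg₃2
    have hyz : y * z = z * y := by
      have hu' := hyu.mul (Ag.refl z) h2z.symm
      have hu'' := (Ag.refl z : Ag z₂ z z).mul hyu hg₃2
      have hv' := hyv.mul (Ag.refl z) (by rw [mul_neg, neg_mul, h2z])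
      have hv'' := (Ag.refl z : Ag (-z₂) z z).mul hyv (by rw [one_mul, mul_one])
      rw [hg₃z] at hu'
      rw [one_mul] at hv'
      rw [mul_one] at hv''
      exact Ag.eq (hu'.trans hu''.symm) (hv'.trans hv''.symm) X.two
    have hyN := L.cent z hz y hyH hyz
    have hyN' := L'.cent z hz' y hyH hyz
    -- the values of the commutator map of `y`
    have hy_f : Ag z₂ (y * f * y⁻¹ * f⁻¹) (-1) ∧ Ag (-z₂) (y * f * y⁻¹ * f⁻¹) 1 := by
      have hfi : f⁻¹ * z₂ = z₂ * f⁻¹ := (Commute.inv_left (show Commute f z₂ from hf2)).eq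
      have hgi : g₃⁻¹ * z₂ = z₂ * g₃⁻¹ := (Commute.inv_left (show Commute g₃ z₂ from hg₃2)).eq
      refine ⟨?_, ?_⟩
      · have := ((hyu.mul (Ag.refl f) hf2).mul (hyu.inv hg₃2) hgi).mul (Ag.refl f⁻¹) hfi
        rwa [show g₃ * f * g₃⁻¹ * f⁻¹ = -1 by
          rw [show g₃ * f = -(f * g₃) by rw [hfg, neg_neg], neg_mul, neg_mul, mul_inv_cancel_right, mul_inv_cancel]] at this
      · have h1 : (1 : GL ι F) * -z₂ = -z₂ * 1 := by rw [one_mul, mul_one]
        have := ((hyv.mul (Ag.refl f) (by rw [mul_neg, neg_mul, hf2])).mul (hyv.inv h1) (by rw [inv_one, h1])).mul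
          (Ag.refl f⁻¹) (by rw [mul_neg, neg_mul, hfi])
        rwa [one_mul, inv_one, mul_one, mul_inv_cancel] at this
    have hyf : y * f * y⁻¹ * f⁻¹ = -z₂ := by
      obtain ⟨hu1, hv1⟩ := hy_f
      refine Ag.eq (z := z₂) (hu1.trans ?_) (hv1.trans ?_) X.two
      · have e : (z₂ : M) * z₂ = 1 := congrArg Units.val hz₂.2.1
        simp [plus, Matrix.mul_add, e, add_comm]
      · have e : (z₂ : M) * z₂ = 1 := congrArg Units.val hz₂.2.1
        simp [plus, Matrix.mul_add, e, add_comm, sub_eq_add_neg]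
    have hyall : ∀ a ∈ R, PM (y * a * y⁻¹ * a⁻¹) 1 ∨ PM (y * a * y⁻¹ * a⁻¹) z₂ ∨
        PM (y * a * y⁻¹ * a⁻¹) g₃ ∨ PM (y * a * y⁻¹ * a⁻¹) (g₃ * z₂) := by
      intro a ha
      rcases X.comm a ha z₂ hz₂.1 with e | e
      · have hai : a⁻¹ * z₂ = z₂ * a⁻¹ := (Commute.inv_left (show Commute a z₂ from e)).eq
        have hgi : g₃⁻¹ * z₂ = z₂ * g₃⁻¹ := (Commute.inv_left (show Commute g₃ z₂ from hg₃2)).eq
        have hu1 := ((hyu.mul (Ag.refl a) e).mul (hyu.inv hg₃2) hgi).mul (Ag.refl a⁻¹) hai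
        have h1 : (1 : GL ι F) * -z₂ = -z₂ * 1 := by rw [one_mul, mul_one]
        have hv1 := ((hyv.mul (Ag.refl a) (by rw [mul_neg, neg_mul, e])).mul (hyv.inv h1) (by rw [inv_one, h1])).mul
          (Ag.refl a⁻¹) (by rw [mul_neg, neg_mul, hai])
        rw [one_mul, inv_one, mul_one, mul_inv_cancel] at hv1
        rcases X.comm g₃ hg₃R a ha with e' | e'
        · rw [e', mul_inv_cancel_right, mul_inv_cancel] at hu1
          exact Or.inl (Or.inl (Ag.eq hu1 hv1 X.two))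
        · rw [e', neg_mul, neg_mul, mul_inv_cancel_right, mul_inv_cancel] at hu1
          refine Or.inr (Or.inl (Or.inr (Ag.eq (z := z₂) (hu1.trans ?_) (hv1.trans ?_) X.two)))
          · have e2 : (z₂ : M) * z₂ = 1 := congrArg Units.val hz₂.2.1
            simp [plus, Matrix.mul_add, e2, add_comm]
          · have e2 : (z₂ : M) * z₂ = 1 := congrArg Units.val hz₂.2.1
            simp [plus, Matrix.mul_add, e2, add_comm, sub_eq_add_neg]
      · obtain ⟨-, hu1, hv1⟩ := root_comm hz₂.2.1 hg₃2 hy2 hyu hyv e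
        have hgm : g₃⁻¹ = -g₃ := inv_eq_of_mul_eq_one_right (by rw [mul_neg, hg₃q, neg_neg])
        rcases X.comm a ha g₃ hg₃R with e' | e'
        · rw [hgm, mul_neg, neg_mul, e', mul_inv_cancel_right] at hv1
          refine Or.inr (Or.inr (Or.inr (Or.inl (Ag.eq (z := z₂) (hu1.trans ?_) (hv1.trans ?_) X.two))))
          · rw [Units.val_mul, Matrix.mul_assoc]; congr 1
            have e2 : (z₂ : M) * z₂ = 1 := congrArg Units.val hz₂.2.1
            simp [plus, Matrix.mul_add, e2, add_comm]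
          · rw [Units.val_mul, Units.val_neg, Matrix.neg_mul, Matrix.mul_assoc, ← Matrix.mul_neg]; congr 1
            have e2 : (z₂ : M) * z₂ = 1 := congrArg Units.val hz₂.2.1
            simp [plus, Matrix.mul_add, e2, add_comm, sub_eq_add_neg]
        · rw [hgm, mul_neg, neg_mul, e', neg_mul, neg_neg, mul_inv_cancel_right] at hv1
          exact Or.inr (Or.inr (Or.inl (Or.inl (Ag.eq hu1 hv1 X.two))))
    -- the relation between `m` and `y`
    obtain ⟨η, hη, hηz, hmy⟩ : ∃ η ∈ R, η * z = z * η ∧ Ag z (m * y * m⁻¹ * y⁻¹) η := by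
      set c' := r * y * r⁻¹ * y⁻¹ with hc'
      have hc'R : c' ∈ R' := by
        rw [hc', mul_assoc r y, mul_assoc r (y * r⁻¹)]
        exact mul_mem hr (conj_norm hyN' (inv_mem hr))
      have hzc' : c' * z = z * c' := by
        have hyi : y⁻¹ * z = z * y⁻¹ := (Commute.inv_left (show Commute y z from hyz)).eq
        have hri : r⁻¹ * z = -(z * r⁻¹) := by
          rw [← mul_left_inj r, neg_mul, mul_assoc z, inv_mul_cancel, mul_one, mul_assoc,
            show z * r = -(r * z) by rw [hrz, neg_neg], mul_neg, inv_mul_cancel_left]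
        rw [hc']
        simp only [mul_assoc, hyi]
        rw [← mul_assoc r⁻¹, hri, neg_mul, mul_assoc z, mul_neg, ← mul_assoc y, hyz, mul_assoc z,
          mul_neg, ← mul_assoc r, hrz, neg_mul, neg_neg, mul_assoc]
      obtain ⟨k, hk, hkz, hkv⟩ := transfer L' X' L X (X'.iz_neg hz') (X.iz_neg hz) hc'R
        (by rw [mul_neg, neg_mul, hzc'])
      rw [mul_neg, neg_mul, neg_inj] at hkz
      have hkv' : Ag z (r₀⁻¹ * c' * r₀) (r₀⁻¹ * k * r₀) := by
        unfold Ag at *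
        simp only [Units.val_mul, Matrix.mul_assoc, (plus_anti hr₀z).1]
        rw [← plus_neg, ← Matrix.mul_assoc (c' : M), ← hkv, Matrix.mul_assoc]
      have hn2 : r₀⁻¹ * y * r₀ * y⁻¹ ∈ R := by
        rw [mul_assoc r₀⁻¹ y, mul_assoc r₀⁻¹]
        exact mul_mem (inv_mem hr₀) (conj_norm hyN hr₀)
      have hk2 : (r₀⁻¹ * k * r₀) * z = z * (r₀⁻¹ * k * r₀) := by
        simp only [mul_assoc, hr₀z]
        rw [mul_neg, mul_neg, ← mul_assoc k, hkz, mul_assoc z, ← mul_assoc r₀⁻¹ z, hr₀i z hr₀z, neg_mul, neg_neg,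
          mul_assoc]
      have hyi : y⁻¹ * z = z * y⁻¹ := (Commute.inv_left (show Commute y z from hyz)).eq
      have hn2z : (r₀⁻¹ * y * r₀ * y⁻¹) * z = z * (r₀⁻¹ * y * r₀ * y⁻¹) := by
        simp only [mul_assoc, hyi]
        rw [← mul_assoc r₀, hr₀z, neg_mul, mul_assoc z, mul_neg, ← mul_assoc y z, hyz, mul_assoc z, mul_neg,
          ← mul_assoc r₀⁻¹ z, hr₀i z hr₀z, neg_mul, neg_neg, mul_assoc]
      refine ⟨r₀⁻¹ * k * r₀ * (r₀⁻¹ * y * r₀ * y⁻¹), mul_mem (mul_mem (mul_mem (inv_mem hr₀) hk) hr₀) hn2,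
        by rw [mul_assoc, hn2z, ← mul_assoc, hk2, mul_assoc], ?_⟩
      rw [show m * y * m⁻¹ * y⁻¹ = r₀⁻¹ * c' * r₀ * (r₀⁻¹ * y * r₀ * y⁻¹) by rw [hm, hc']; group]
      exact hkv'.mul (Ag.refl _) hn2z
    -- conclude
    set f' := m * f * m⁻¹ with hf'
    have hf'R : f' ∈ R := conj_norm hmN hf
    have hf'z := hcz hfz
    set δ := y * f' * y⁻¹ * f'⁻¹ with hδ
    have hδR : δ ∈ R := mul_mem (conj_norm hyN hf'R) (inv_mem hf'R)
    have hyi : y⁻¹ * z = z * y⁻¹ := (Commute.inv_left (show Commute y z from hyz)).eq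
    have hf'i : f'⁻¹ * z = z * f'⁻¹ := (Commute.inv_left (show Commute f' z from hf'z)).eq
    have hηi : η⁻¹ * z = z * η⁻¹ := (Commute.inv_left (show Commute η z from hηz)).eq
    have hkey : Ag z (m * (y * f * y⁻¹ * f⁻¹) * m⁻¹) (η * δ * f' * η⁻¹ * f'⁻¹) := by
      rw [show m * (y * f * y⁻¹ * f⁻¹) * m⁻¹ =
        (m * y * m⁻¹ * y⁻¹) * δ * f' * (m * y * m⁻¹ * y⁻¹)⁻¹ * f'⁻¹ by rw [hδ, hf']; group]
      have hδz : δ * z = z * δ := by
        rw [hδ]
        exact (((show Commute y z from hyz).mul_left hf'z).mul_left hyi |>.mul_left hf'i).eq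
      exact (((hmy.mul (Ag.refl δ) hδz).mul (Ag.refl f') hf'z).mul (hmy.inv hηz) hηi).mul (Ag.refl f'⁻¹) hf'i
    rw [hyf, mul_neg, neg_mul] at hkey
    obtain ⟨k, hk, hkk⟩ : ∃ k, (k = 1 ∨ k = z₂ ∨ k = g₃ ∨ k = g₃ * z₂) ∧ PM (η * δ * f' * η⁻¹ * f'⁻¹) k := by
      have h1 : PM (η * δ * f' * η⁻¹ * f'⁻¹) δ := by
        have e1 : PM (η * δ) (δ * η) := X.comm η hη δ hδR
        have e2 : PM (η * f') (f' * η) := X.comm η hη f' hf'R
        have e3 := ((e1.mul (PM.refl f')).mul (PM.refl η⁻¹)).mul (PM.refl f'⁻¹)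
        refine e3.trans ?_
        have e4 := ((((PM.refl δ).mul e2)).mul (PM.refl η⁻¹)).mul (PM.refl f'⁻¹)
        simp only [← mul_assoc] at e4
        rw [mul_inv_cancel_right, mul_inv_cancel_right] at e4
        exact e4
      rcases hyall f' hf'R with e | e | e | e
      exacts [⟨1, Or.inl rfl, h1.trans e⟩, ⟨z₂, Or.inr (Or.inl rfl), h1.trans e⟩,
        ⟨g₃, Or.inr (Or.inr (Or.inl rfl)), h1.trans e⟩, ⟨_, Or.inr (Or.inr (Or.inr rfl)), h1.trans e⟩]
    obtain ⟨d, hd, hval⟩ : ∃ d : F, d * d = 1 ∧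
        ((m * z₂ * m⁻¹ : GL ι F) : M) * plus z = d • ((k : M) * plus z) := by
      unfold Ag at hkey
      rw [Units.val_neg, Matrix.neg_mul, neg_eq_iff_eq_neg] at hkey
      rcases hkk with e | e <;> rw [e] at hkey
      · exact ⟨-1, by simp, by rw [hkey, neg_one_smul]⟩
      · exact ⟨1, by simp, by rw [hkey, Units.val_neg, Matrix.neg_mul, neg_neg, one_smul]⟩
    have hd0 : d ≠ 0 := fun e => by simp [e] at hd
    have hkz : k * z = z * k := by
      rcases hk with rfl | rfl | rfl | rfl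
      · rw [one_mul, mul_one]
      · exact h2z
      · exact hg₃z
      · rw [mul_assoc, h2z, ← mul_assoc, hg₃z, mul_assoc]
    have hsq : (k : M) * k * plus z = plus z := by
      have e1 : ((m * z₂ * m⁻¹ : GL ι F) : M) * ((m * z₂ * m⁻¹ : GL ι F) : M) = 1 := by
        rw [← Units.val_mul, show m * z₂ * m⁻¹ * (m * z₂ * m⁻¹) = m * (z₂ * z₂) * m⁻¹ by group, hz₂.2.1, mul_one,
          mul_inv_cancel, Units.val_one]
      have e2 := congrArg (fun Y => ((m * z₂ * m⁻¹ : GL ι F) : M) * Y) hval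
      beta_reduce at e2
      rw [← Matrix.mul_assoc, e1, Matrix.one_mul, Matrix.mul_smul, (plus_comm hkz).1, ← Matrix.mul_assoc, hval,
        Matrix.smul_mul, smul_smul, hd, one_smul, Matrix.mul_assoc, ← (plus_comm hkz).1, ← Matrix.mul_assoc] at e2
      exact e2.symm
    have hbad : k * k = -1 → False := fun e => plus_ne_zero hz (by
      rw [← Units.val_mul, e, Units.val_neg, Units.val_one, Matrix.neg_mul, Matrix.one_mul] at hsq
      have h3 : (2 : F) • plus z = 0 := by rw [two_smul]; nth_rw 1 [← hsq]; exact neg_add_cancel _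
      exact (smul_eq_zero.1 h3).resolve_left X.two)
    rcases hk with rfl | rfl | rfl | rfl
    · exfalso
      rw [Units.val_one, Matrix.one_mul] at hval
      have e2 : (z₂ : M) * plus z = d • plus z := by
        calc (z₂ : M) * plus z = (m⁻¹ : GL ι F).1 * (((m * z₂ * m⁻¹ : GL ι F) : M) * plus z) * m.1 := by
              simp only [Units.val_mul, Matrix.mul_assoc]
              rw [← (plus_comm hmz).1, ← Matrix.mul_assoc (m⁻¹ : GL ι F).1 m.1, Units.inv_mul, Matrix.one_mul,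
                ← Matrix.mul_assoc (m⁻¹ : GL ι F).1 m.1, Units.inv_mul, Matrix.one_mul]
          _ = d • plus z := by
              rw [hval, Matrix.mul_smul, Matrix.smul_mul, Matrix.mul_assoc, ← (plus_comm hmz).1, ← Matrix.mul_assoc,
                Units.inv_mul, Matrix.one_mul]
      rcases X.agree_cases hz hz₂.1 h2z hd0 e2 with e | e
      · exact hz₂.2.2 e
      · exact htriv e
    · exact ⟨d, hd, hval⟩
    · exact (hbad hg₃q).elim
    · refine (hbad ?_).elim
      rw [show g₃ * z₂ * (g₃ * z₂) = g₃ * (z₂ * g₃) * z₂ by group, ← hg₃2,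
        show g₃ * (g₃ * z₂) * z₂ = g₃ * g₃ * (z₂ * z₂) by group, hg₃q, hz₂.2.1, mul_one]
  have hall : ∀ a ∈ R, a * z = z * a → ∃ d : F, d * d = 1 ∧
      ((m * a * m⁻¹ : GL ι F) : M) * plus z = d • ((a : M) * plus z) := by
    intro a ha haz
    by_cases h1 : PM a 1
    · rcases h1 with rfl | rfl <;> exact ⟨1, one_mul 1, by simp⟩
    by_cases haa : a * a = 1
    · exact hinvol a ⟨ha, haa, h1⟩ haz
    have hn : ¬ PM a z := fun e => haa (by rw [e.sq, hz.2.1])
    obtain ⟨q, hq, hqz, hqa⟩ := X.exists_iz_anti_cent hz ha haz h1 hn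
    have hqaz : q * a * z = z * (q * a) := by rw [mul_assoc, haz, ← mul_assoc, hqz, mul_assoc]
    have hiz : IZ R (q * a) := ⟨mul_mem hq.1 ha, by
      rw [show q * a * (q * a) = q * (a * q) * a by group, show a * q = -(q * a) by rw [hqa, neg_neg], mul_neg,
        neg_mul, show q * (q * a) * a = q * q * (a * a) by group, hq.2.1, X.sq_neg ha haa, one_mul, neg_neg],
      fun e => haa (by
        have e2 := (PM.refl q).mul e
        rw [← mul_assoc, hq.2.1, one_mul, mul_one] at e2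
        rw [e2.sq, hq.2.1])⟩
    obtain ⟨d₁, hd₁, e₁⟩ := hinvol q hq hqz
    obtain ⟨d₂, hd₂, e₂⟩ := hinvol _ hiz hqaz
    refine ⟨d₁ * d₂, by rw [show d₁ * d₂ * (d₁ * d₂) = d₁ * d₁ * (d₂ * d₂) by ring, hd₁, hd₂, one_mul], ?_⟩
    rw [show m * a * m⁻¹ = m * q * m⁻¹ * (m * (q * a) * m⁻¹) by
      rw [show m * q * m⁻¹ * (m * (q * a) * m⁻¹) = m * (q * q * a) * m⁻¹ by group, hq.2.1, one_mul],
      Units.val_mul, Matrix.mul_assoc, e₂, Matrix.mul_smul, (plus_comm hqaz).1, ← Matrix.mul_assoc, e₁,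
      Matrix.smul_mul, smul_smul, Matrix.mul_assoc, ← (plus_comm hqaz).1, ← Matrix.mul_assoc, ← Units.val_mul,
      ← mul_assoc q q a, hq.2.1, one_mul, mul_comm d₂ d₁]
  obtain ⟨x, hx, hxz, hu, hv⟩ := root_ag L X hz hg hgz
  obtain ⟨hcz', hcu, hcv⟩ := root_comm hz.2.1 hgz hxz hu hv hrz
  set c := x * r * x⁻¹ * r⁻¹ with hc
  have hcR : c ∈ R' := mul_mem (conj_norm (L'.cent z hz' x hx hxz) hr) (inv_mem hr)
  have hgiz : g⁻¹ * z = z * g⁻¹ := (Commute.inv_left (show Commute g z from hgz)).eq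
  obtain ⟨d, hd, hdv⟩ := hall g⁻¹ (inv_mem hg) hgiz
  have hcg : ∃ d' : F, d' * d' = 1 ∧ (c : M) * plus (-z) = d' • ((g : M) * plus (-z)) := by
    have hpm : PM (r₀ * g⁻¹ * r₀⁻¹) g := by
      have h1 : PM g⁻¹ g := by
        have := (X.sq g hg).mul (PM.refl g⁻¹)
        rw [mul_inv_cancel_right, one_mul] at this
        exact this.symm
      have h2 : PM (r₀ * g) (g * r₀) := X.comm r₀ hr₀ g hg
      have h3 := h2.mul (PM.refl r₀⁻¹)
      rw [mul_inv_cancel_right] at h3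
      exact (h1.conj r₀).trans h3
    have hr₀p : ((r₀⁻¹ : GL ι F) : M) * plus (-z) = plus z * (r₀⁻¹ : GL ι F).1 := by
      rw [plus_neg]; exact (plus_anti (hr₀i z hr₀z)).2
    rw [show r * g⁻¹ * r⁻¹ = r₀ * (m * g⁻¹ * m⁻¹) * r₀⁻¹ by rw [hm]; group] at hcv
    unfold Ag at hcv
    have e3 : (c : M) * plus (-z) = d • (((r₀ * g⁻¹ * r₀⁻¹ : GL ι F) : M) * plus (-z)) := by
      calc (c : M) * plus (-z) = (r₀ : M) * ((m * g⁻¹ * m⁻¹ : GL ι F) : M) * (((r₀⁻¹ : GL ι F) : M) * plus (-z)) := by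
            rw [hcv]; simp only [Units.val_mul, Matrix.mul_assoc]
        _ = (r₀ : M) * (((m * g⁻¹ * m⁻¹ : GL ι F) : M) * plus z) * (r₀⁻¹ : GL ι F).1 := by
            rw [hr₀p]; simp only [Matrix.mul_assoc]
        _ = d • ((r₀ : M) * ((g⁻¹ : GL ι F).1 * plus z) * (r₀⁻¹ : GL ι F).1) := by
            rw [hdv, Matrix.mul_smul, Matrix.smul_mul]
        _ = _ := by
            congr 1
            simp only [Units.val_mul, Matrix.mul_assoc, hr₀p]
    rcases hpm with e | e <;> rw [e] at e3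
    · exact ⟨d, hd, e3⟩
    · exact ⟨-d, by rw [neg_mul_neg, hd], by rw [e3, Units.val_neg, Matrix.neg_mul, smul_neg, neg_smul]⟩
  obtain ⟨d', hd', hcv'⟩ := hcg
  rcases mul_self_eq_one_iff.1 hd' with rfl | rfl
  · rw [one_smul] at hcv'
    rwa [← Ag.eq hcu hcv' X.two]
  · have e : c = g * z := Ag.eq (z := z) (hcu.trans ?_) (hcv'.trans ?_) X.two
    · have := mul_mem hcR hz'.1
      rwa [e, mul_assoc, hz.2.1, mul_one] at this
    · rw [Units.val_mul, Matrix.mul_assoc]; congr 1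
      have e2 : (z : M) * z = 1 := congrArg Units.val hz.2.1
      simp [plus, Matrix.mul_add, e2, add_comm]
    · rw [Units.val_mul, Matrix.mul_assoc, neg_one_smul, ← Matrix.mul_neg]; congr 1
      have e2 : (z : M) * z = 1 := congrArg Units.val hz.2.1
      simp [plus, Matrix.mul_add, e2, add_comm, sub_eq_add_neg]

theorem canonical (L : Loc0 R H) (X : Ext R) (L' : Loc0 R' H) (X' : Ext R') {z : GL ι F} (hz : IZ R z)
    (hz' : IZ R' z) : R ≤ R' := by
  obtain ⟨r₀, hr₀, hr₀z⟩ := X.anti hz.1 hz.2.2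
  obtain ⟨z₂, ⟨⟨hz₂R, hz₂z⟩, hz₂r⟩, hz₂⟩ := X.exists_iz
    (inf_le_left.trans inf_le_left : R ⊓ centralizer {z} ⊓ centralizer {r₀} ≤ R)
    (lt_of_lt_of_le (by norm_num) (X.cent_two hz.1 hr₀))
  have hz₂z := mem_centralizer_singleton_iff.1 hz₂z
  have hz₂r := mem_centralizer_singleton_iff.1 hz₂r
  have hmem : ∀ g ∈ R, g * z = z * g → g ∈ R' := fun g hg h => canonical_step L X L' X' hz hz' hg h
  have hr₀' : r₀ ∈ R' := canonical_step L X L' X' hz₂ ⟨hmem z₂ hz₂.1 hz₂z, hz₂.2.1, hz₂.2.2⟩ hr₀ hz₂r.symm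
  intro g hg
  rcases X.comm g hg z hz.1 with e | e
  · exact hmem g hg e
  · have := mul_mem (hmem (g * r₀) (mul_mem hg hr₀)
      (by rw [mul_assoc, hr₀z, mul_neg, ← mul_assoc, e, neg_mul, neg_neg, mul_assoc])) (inv_mem hr₀')
    rwa [mul_inv_cancel_right] at this

theorem Loc0.conj_cent (L : Loc0 R H) {h : GL ι F} (hh : h ∈ H) :
    (∀ x ∈ H, ∀ w, IZ R w → x * (h * w * h⁻¹) = h * w * h⁻¹ * x →
      x ∈ normalizer ((R.map (MulAut.conj h).toMonoidHom : Subgroup (GL ι F)) : Set (GL ι F))) := by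
  intro x hx w hw hxw
  have h1 := L.cent w hw (h⁻¹ * x * h) (mul_mem (mul_mem (inv_mem hh) hx) hh) (by
    calc h⁻¹ * x * h * w = h⁻¹ * (x * (h * w * h⁻¹)) * h := by group
      _ = _ := by rw [hxw]; group)
  rw [Subgroup.mem_normalizer_iff] at h1 ⊢
  intro y
  simp only [SetLike.mem_coe, Subgroup.mem_map_equiv, MulAut.conj_symm_apply] at h1 ⊢
  rw [h1 (h⁻¹ * y * h)]
  exact iff_of_eq (congrArg (· ∈ R) (by group))

theorem Loc0.conj (L : Loc0 R H) {h : GL ι F} (hh : h ∈ H) : Loc0 (R.map (MulAut.conj h).toMonoidHom) H := by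
  have hmem : ∀ {x}, x ∈ R.map (MulAut.conj h).toMonoidHom → h⁻¹ * x * h ∈ R := fun {x} hx => by
    obtain ⟨y, hy, rfl⟩ := hx
    show h⁻¹ * (h * y * h⁻¹) * h ∈ R
    rwa [show h⁻¹ * (h * y * h⁻¹) * h = y by group]
  have hiz : ∀ {z}, IZ (R.map (MulAut.conj h).toMonoidHom) z → IZ R (h⁻¹ * z * h) := fun {z} hz => by
    refine ⟨hmem hz.1, ?_, fun e => hz.2.2 ?_⟩
    · rw [show h⁻¹ * z * h * (h⁻¹ * z * h) = h⁻¹ * (z * z) * h by group, hz.2.1, mul_one, inv_mul_cancel]
    · have := e.conj h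
      rwa [show h * (h⁻¹ * z * h) * h⁻¹ = z by group, mul_one, mul_inv_cancel] at this
  have hcz : ∀ {a b : GL ι F}, a * b = b * a → h⁻¹ * a * h * (h⁻¹ * b * h) = h⁻¹ * b * h * (h⁻¹ * a * h) :=
    fun {a b} e => by
    rw [show h⁻¹ * a * h * (h⁻¹ * b * h) = h⁻¹ * (a * b) * h by group, e]; group
  have hback : ∀ {w k : GL ι F} {A B : M}, A * plus w = B * plus w →
      (h : M) * A * (h⁻¹ : GL ι F).1 * plus (h * w * h⁻¹) = (h : M) * B * (h⁻¹ : GL ι F).1 * plus (h * w * h⁻¹) := by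
    intro w k A B e
    have ep : (h⁻¹ : GL ι F).1 * plus (h * w * h⁻¹) = plus w * (h⁻¹ : GL ι F).1 := by
      simp only [plus, Units.val_mul, Matrix.mul_add, Matrix.add_mul, Matrix.mul_one, Matrix.one_mul,
        ← Matrix.mul_assoc, Units.inv_mul]
    rw [Matrix.mul_assoc, ep, ← Matrix.mul_assoc, Matrix.mul_assoc (h : M) A, e, ← Matrix.mul_assoc,
      Matrix.mul_assoc ((h : M) * B), ← ep, ← Matrix.mul_assoc]
  refine ⟨fun x hx => ?_, fun z hz x hx hxz => ?_, fun z hz g hg hgz => ?_⟩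
  · obtain ⟨y, hy, rfl⟩ := hx
    exact mul_mem (mul_mem hh (L.sub hy)) (inv_mem hh)
  · exact L.conj_cent hh x hx _ (hiz hz) (by rw [show h * (h⁻¹ * z * h) * h⁻¹ = z by group]; exact hxz)
  · obtain ⟨x, hx, hxz, hu, hv⟩ := L.root _ (hiz hz) _ (hmem hg) (hcz hgz)
    refine ⟨h * x * h⁻¹, mul_mem (mul_mem hh hx) (inv_mem hh), ?_, ?_, ?_⟩
    · calc h * x * h⁻¹ * z = h * (x * (h⁻¹ * z * h)) * h⁻¹ := by group
        _ = _ := by rw [hxz]; group
    · have := hback (k := x) hu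
      rwa [show h * (h⁻¹ * z * h) * h⁻¹ = z by group, ← Units.val_mul, ← Units.val_mul, ← Units.val_mul,
        ← Units.val_mul, show h * (h⁻¹ * g * h) * h⁻¹ = g by group] at this
    · have h1 : (x : M) * plus (-(h⁻¹ * z * h)) = (1 : M) * plus (-(h⁻¹ * z * h)) := by
        rw [plus_neg, hv, Matrix.one_mul]
      have := hback (k := x) h1
      rwa [mul_neg, neg_mul, show h * (h⁻¹ * z * h) * h⁻¹ = z by group, plus_neg, Matrix.mul_one, Units.mul_inv,
        Matrix.one_mul, ← Units.val_mul, ← Units.val_mul] at this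

/-- Every non-central involution fuses only inside `R`. -/
theorem Loc0.ufix (L : Loc0 R H) (X : Ext R)
    (pairs : ∀ z' ∈ H, z' ∈ normalizer (R : Set (GL ι F)) → z' * z' = 1 → ¬ PM z' 1 → (z' : M).trace = 0 →
      ∃ z₁, IZ R z₁ ∧ z₁ * z' = z' * z₁ ∧ ∃ g₁ ∈ R, ∃ g₂ ∈ R, g₁ * z₁ = z₁ * g₁ ∧ g₂ * z₁ = z₁ * g₂ ∧
        g₁ * g₂ = -(g₂ * g₁) ∧ (g₁ : M) * z' * plus z₁ = (z' : M) * g₁ * plus z₁ ∧
        (g₂ : M) * z' * plus z₁ = (z' : M) * g₂ * plus z₁) : UFix R H := by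
  intro z hz h hh hzN
  set z' := h * z * h⁻¹ with hz'
  have hz'2 : z' * z' = 1 := by
    rw [hz', show h * z * h⁻¹ * (h * z * h⁻¹) = h * (z * z) * h⁻¹ by group, hz.2.1, mul_one, mul_inv_cancel]
  have htr : (z' : M).trace = 0 := by
    rw [hz', Units.val_mul, Units.val_mul, Matrix.trace_mul_comm, ← Matrix.mul_assoc, Units.inv_mul, Matrix.one_mul,
      X.iz_trace hz]
  obtain ⟨z₁, hz₁, hz₁z', g₁, hg₁, g₂, hg₂, c₁, c₂, hanti, e₁, e₂⟩ := pairs z'
    (mul_mem (mul_mem hh (L.sub hz.1)) (inv_mem hh)) hzN hz'2 (fun e => hz.2.2 (by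
      have := e.conj h⁻¹
      rw [hz', show h⁻¹ * (h * z * h⁻¹) * h⁻¹⁻¹ = z by group, mul_one, mul_inv_cancel] at this
      exact this)) htr
  set k := h⁻¹ * z₁ * h with hk
  set R' := R.map (MulAut.conj h).toMonoidHom with hR'
  have L' : Loc0 R' H := L.conj hh
  have X' : Ext R' := X.conj h
  by_cases hkR : k ∈ R
  · have hz₁' : IZ R' z₁ := ⟨⟨k, hkR, by show h * (h⁻¹ * z₁ * h) * h⁻¹ = z₁; group⟩, hz₁.2.1, hz₁.2.2⟩
    have h1 := canonical L X L' X' hz₁ hz₁'
    have h2 := canonical L' X' L X hz₁' hz₁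
    have e : R' = R := le_antisymm h2 h1
    rw [Subgroup.mem_normalizer_iff]
    intro y
    constructor
    · intro hy
      have : h * y * h⁻¹ ∈ R' := ⟨y, hy, rfl⟩
      exact e ▸ this
    · intro hy
      have : h * y * h⁻¹ ∈ R' := e.symm ▸ hy
      obtain ⟨y', hy', e'⟩ := this
      rwa [← (MulAut.conj h).injective e']
  exfalso
  have hz₁N' : z₁ ∈ normalizer (R' : Set (GL ι F)) := L.conj_cent hh z₁ (L.sub hz₁.1) z hz hz₁z'
  obtain ⟨r, hr, hrz⟩ := X'.exists_anti_norm hz₁N' hz₁.2.1 (X.iz_trace hz₁)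
  have root' : ∀ g ∈ R, g * z₁ = z₁ * g → (g : M) * z' * plus z₁ = (z' : M) * g * plus z₁ →
      ∃ x ∈ normalizer (R' : Set (GL ι F)), x * z₁ = z₁ * x ∧ Ag z₁ x g ∧ Ag (-z₁) x 1 := by
    intro g hg hgz hgz'
    obtain ⟨x, hx, hxz, hu, hv⟩ := root_ag L X hz₁ hg hgz
    refine ⟨x, L.conj_cent hh x hx z hz ?_, hxz, hu, hv⟩
    have hu1 := hu.mul (Ag.refl z') hz₁z'.symm
    have hu2 := (Ag.refl z' : Ag z₁ z' z').mul hu hgz
    have hv1 := hv.mul (Ag.refl z') (by rw [mul_neg, neg_mul, hz₁z'.symm])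
    have hv2 := (Ag.refl z' : Ag (-z₁) z' z').mul hv (by rw [one_mul, mul_one])
    rw [one_mul] at hv1
    rw [mul_one] at hv2
    refine Ag.eq (hu1.trans (Eq.trans ?_ hu2.symm)) (hv1.trans hv2.symm) X.two
    rw [Units.val_mul, Units.val_mul]
    exact hgz'
  obtain ⟨x₁, hx₁, hx₁z, hu₁, hv₁⟩ := root' g₁ hg₁ c₁ e₁
  obtain ⟨x₂, hx₂, hx₂z, hu₂, hv₂⟩ := root' g₂ hg₂ c₂ e₂
  obtain ⟨hcz, hcu, hcv⟩ := root_comm hz₁.2.1 c₂ hx₂z hu₂ hv₂ hrz
  set c := x₂ * r * x₂⁻¹ * r⁻¹ with hc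
  have hcR : c ∈ R' := mul_mem (conj_norm hx₂ hr) (inv_mem hr)
  have hq : x₁ * c * x₁⁻¹ * c⁻¹ = -z₁ := by
    have hg₁i : g₁⁻¹ * z₁ = z₁ * g₁⁻¹ := (Commute.inv_left (show Commute g₁ z₁ from c₁)).eq
    have hg₂i : g₂⁻¹ * z₁ = z₁ * g₂⁻¹ := (Commute.inv_left (show Commute g₂ z₁ from c₂)).eq
    have h1 := ((hu₁.mul hcu c₂).mul (hu₁.inv c₁) hg₁i).mul (hcu.inv c₂) hg₂i
    rw [show g₁ * g₂ * g₁⁻¹ * g₂⁻¹ = -1 by
      rw [hanti, neg_mul, neg_mul, mul_inv_cancel_right, mul_inv_cancel]] at h1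
    have h1' : (1 : GL ι F) * -z₁ = -z₁ * 1 := by rw [one_mul, mul_one]
    have hc1 : c⁻¹ * -z₁ = -z₁ * c⁻¹ := by
      rw [mul_neg, neg_mul, (Commute.inv_left (show Commute c z₁ from hcz)).eq]
    have h2 := ((hv₁.mul (Ag.refl c) (by rw [mul_neg, neg_mul, hcz])).mul (hv₁.inv h1')
      (by rw [inv_one, h1'])).mul (Ag.refl c⁻¹) hc1
    rw [one_mul, inv_one, mul_one, mul_inv_cancel] at h2
    refine Ag.eq (z := z₁) (h1.trans ?_) (h2.trans ?_) X.two
    · have e : (z₁ : M) * z₁ = 1 := congrArg Units.val hz₁.2.1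
      simp [plus, Matrix.mul_add, e, add_comm]
    · have e : (z₁ : M) * z₁ = 1 := congrArg Units.val hz₁.2.1
      simp [plus, Matrix.mul_add, e, add_comm, sub_eq_add_neg]
  have hm : z₁ ∈ R' := by
    have : -z₁ ∈ R' := hq ▸ mul_mem (conj_norm hx₁ hcR) (inv_mem hcR)
    exact X'.mem_pm (PM.negl z₁).symm this
  obtain ⟨y, hy, e⟩ := hm
  refine hkR ?_
  rw [hk, ← e]
  show h⁻¹ * (h * y * h⁻¹) * h ∈ R
  rwa [show h⁻¹ * (h * y * h⁻¹) * h = y by group]

/-- Every non-central involution fuses only inside `R`. -/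
theorem Loc.ufix (L : Loc R H) (X : Ext R) : UFix R H :=
  L.loc0.ufix X fun z' hz'H hz'N hz'2 _ _ => by
    obtain ⟨z₁, hz₁, -, hcomm⟩ := X.exists_iz_norm hz'N (Or.inl hz'2)
    exact ⟨z₁, hz₁, hcomm hz'2, L.pair z₁ hz₁ z' hz'H hz'N hz'2 (hcomm hz'2).symm⟩

/-- An overgroup with the local properties normalises `R`. -/
theorem Loc.le_normalizer [Finite F] (L : Loc R H) (X : Ext R) : H ≤ normalizer (R : Set (GL ι F)) :=
  (L.ufix X).le_normalizer X L.sub

end CfsgLib.MaxSub.Extra
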