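import Mathlib
import Cfsg.Agent.Lib.Elementary

/-!
A two-group of exponent four with centre of order two whose characteristic abelian subgroups are cyclic
has all its squares and commutators in the centre.
-/

set_option autoImplicit false

namespace CfsgLib.MaxSub.Extra

open Subgroup

variable {G : Type*} [Group G] [Finite G]

theorem squares_central (hp : IsPGroup 2 G) (h4 : ∀ x : G, x ^ 4 = 1)
    (hcyc : ∀ A : Subgroup G, A.Characteristic → IsMulCommutative A → IsCyclic A)
    (hZ : Nat.card (center G) = 2) (g : G) : g ^ 2 ∈ center G := by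
  classical
  obtain ⟨z, hz, hzu⟩ := Nat.card_eq_two_iff' (1 : center G) |>.1 hZ
  set W := Subgroup.upperCentralSeries G 2 with hW
  have hWmem : ∀ w, w ∈ W ↔ ∀ y, w * y * w⁻¹ * y⁻¹ ∈ center G := fun w => by
    rw [hW, Subgroup.mem_upperCentralSeries_succ_iff]
    simp only [Subgroup.upperCentralSeries_one, commutatorElement_def]
  have hsq : ∀ c ∈ center G, c * c = 1 := fun c hc => by
    have := pow_card_eq_one' (G := center G) (x := ⟨c, hc⟩)
    rw [hZ, pow_two] at this
    exact congrArg Subtype.val this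
  have hcs : ∀ w ∈ W, ∀ y : G, y ^ 2 * w = w * y ^ 2 := fun w hw y => by
    have hc := (hWmem w).1 hw y
    set c := w * y * w⁻¹ * y⁻¹ with hcd
    have e : w * y * w⁻¹ = c * y := by rw [hcd]; group
    have e2 : w * y ^ 2 * w⁻¹ = y ^ 2 := by
      calc w * y ^ 2 * w⁻¹ = w * y * w⁻¹ * (w * y * w⁻¹) := by rw [pow_two]; group
        _ = c * (y * c) * y := by rw [e]; group
        _ = c * c * y ^ 2 := by rw [mem_center_iff.1 hc y, pow_two]; group
        _ = y ^ 2 := by rw [hsq c hc, one_mul]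
    exact (mul_inv_eq_iff_eq_mul.1 e2).symm
  set A := W ⊓ centralizer (W : Set G) with hA
  haveI hAc : A.Characteristic := inferInstance
  haveI hAn : A.Normal := inferInstance
  haveI hAcyc : IsCyclic A :=
    hcyc A hAc ⟨⟨fun u v => Subtype.ext (mem_centralizer_iff.1 v.2.2 u.1 u.2.1)⟩⟩
  have hZA : center G ≤ A := fun c hc =>
    ⟨(hWmem c).2 fun y => by rw [← mem_center_iff.1 hc y]; simp, mem_centralizer_iff.2 fun w _ => mem_center_iff.1 hc w⟩
  -- the only square root of one in `A` other than one is central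
  have huniq : ∀ u ∈ A, u * u = 1 → u ∈ center G := fun u hu huu => by
    by_cases h1 : u = 1
    · exact h1 ▸ one_mem _
    haveI := Fintype.ofFinite A
    have hcard := IsCyclic.card_pow_eq_one_le (α := A) (n := 2) two_pos
    by_contra hne
    have hz1 : (z : G) ≠ 1 := fun e => hz (Subtype.ext e)
    have hzu' : u ≠ z := fun e => hne (e ▸ z.2)
    have hsub : ({1, ⟨u, hu⟩, ⟨z, hZA z.2⟩} : Finset A) ⊆ Finset.univ.filter fun x => x ^ 2 = 1 := by
      intro x hx
      refine Finset.mem_filter.2 ⟨Finset.mem_univ _, ?_⟩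
      simp only [Finset.mem_insert, Finset.mem_singleton] at hx
      rcases hx with rfl | rfl | rfl
      · exact one_pow 2
      · exact Subtype.ext (by simpa [pow_two] using huu)
      · exact Subtype.ext (by simpa [pow_two] using hsq z z.2)
    have h3 := (Finset.card_le_card hsub).trans hcard
    rw [Finset.card_eq_three.2 ⟨_, _, _, fun e => h1 (congrArg Subtype.val e).symm,
      fun e => hz1 (congrArg Subtype.val e).symm, fun e => hzu' (congrArg Subtype.val e), rfl⟩] at h3
    omega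
  -- squares lie in `A`
  set T := closure (Set.range fun y : G => y ^ 2) ⊔ A with hT
  haveI : (closure (Set.range fun y : G => y ^ 2)).Characteristic := characteristic_iff_map_le.2 fun φ => by
    rw [MonoidHom.map_closure, closure_le]
    rintro _ ⟨_, ⟨u, rfl⟩, rfl⟩
    exact subset_closure ⟨φ u, (map_pow φ.toMonoidHom u 2).symm⟩
  have hTW : T ≤ centralizer (W : Set G) := sup_le ((closure_le _).2 (by
    rintro _ ⟨y, rfl⟩
    exact mem_centralizer_iff.2 fun w hw => (hcs w hw y).symm)) inf_le_right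
  have hTA : T ≤ A := by
    by_contra hTA
    obtain ⟨t, ht, htA⟩ := SetLike.not_le_iff_exists.1 hTA
    set Tb := T.map (QuotientGroup.mk' A) with hTb
    haveI : Group.IsNilpotent (G ⧸ A) := (hp.to_quotient A).isNilpotent
    haveI : Tb.Normal := Normal.map inferInstance _ (QuotientGroup.mk'_surjective A)
    have hne : Tb ≠ ⊥ := fun e => htA (by
      have : QuotientGroup.mk' A t ∈ Tb := mem_map_of_mem _ ht
      rw [e, mem_bot] at this
      exact (QuotientGroup.eq_one_iff t).1 this)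
    obtain ⟨⟨q, hq, hqc⟩, hq1⟩ : ∃ q : ↥(Tb ⊓ center (G ⧸ A)), (q : G ⧸ A) ≠ 1 := by
      by_contra hh
      push Not at hh
      exact CfsgLib.inf_center_ne_bot_of_nilpotent hne ((Subgroup.eq_bot_iff_forall _).2 fun q hq => hh ⟨q, hq⟩)
    obtain ⟨n, hn, rfl⟩ := mem_map.1 hq
    have hnA : n ∉ A := fun h => hq1 ((QuotientGroup.eq_one_iff n).2 h)
    have hcomm : ∀ y, n * y * n⁻¹ * y⁻¹ ∈ A := fun y => by
      rw [← QuotientGroup.eq_one_iff]
      show QuotientGroup.mk' A (n * y * n⁻¹ * y⁻¹) = 1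
      rw [map_mul, map_mul, map_mul, map_inv, map_inv, ← mem_center_iff.1 hqc (QuotientGroup.mk' A y)]
      group
    have hnW : n ∈ centralizer (W : Set G) := hTW hn
    have hnA' : ∀ u ∈ A, n * u * n⁻¹ = u := fun u hu => by
      rw [mul_inv_eq_iff_eq_mul]
      exact (mem_centralizer_iff.1 hnW u hu.1).symm
    have hsqc : ∀ y, n ^ 2 * y * (n ^ 2)⁻¹ * y⁻¹ = (n * y * n⁻¹ * y⁻¹) * (n * y * n⁻¹ * y⁻¹) := fun y => by
      calc n ^ 2 * y * (n ^ 2)⁻¹ * y⁻¹ = (n * (n * y * n⁻¹ * y⁻¹) * n⁻¹) * (n * y * n⁻¹ * y⁻¹) := by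
            simp only [pow_two, mul_inv_rev]; group
        _ = _ := by rw [hnA' _ (hcomm y)]
    have h2A : ∀ u ∈ A, u * u ∈ center G := fun u hu => huniq _ (mul_mem hu hu) (by
      rw [mul_assoc, ← pow_three u, ← pow_succ']; exact h4 u)
    have hn2 : n ^ 2 ∈ center G := by
      refine huniq _ ⟨(hWmem _).2 fun y => by rw [hsqc]; exact h2A _ (hcomm y), pow_mem hnW 2⟩ ?_
      rw [← pow_add]
      exact h4 n
    have hnW' : n ∈ W := (hWmem n).2 fun y => huniq _ (hcomm y) (by
      rw [← hsqc, ← mem_center_iff.1 hn2 y]; group)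
    exact hnA ⟨hnW', hnW⟩
  have hgA : g ^ 2 ∈ A := hTA ((le_sup_left : _ ≤ T) (subset_closure ⟨g, rfl⟩))
  refine huniq _ hgA ?_
  rw [← pow_add]
  exact h4 g

theorem commutators_central (hp : IsPGroup 2 G) (h4 : ∀ x : G, x ^ 4 = 1)
    (hcyc : ∀ A : Subgroup G, A.Characteristic → IsMulCommutative A → IsCyclic A)
    (hZ : Nat.card (center G) = 2) (x y : G) : x * y * x⁻¹ * y⁻¹ ∈ center G := by
  have h := squares_central hp h4 hcyc hZ
  have e : x * y * x⁻¹ * y⁻¹ = x ^ 2 * (x⁻¹ * y) ^ 2 * (y ^ 2)⁻¹ := by simp [pow_two, mul_assoc]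
  rw [e]
  exact mul_mem (mul_mem (h x) (h _)) (inv_mem (h y))

end CfsgLib.MaxSub.Extra
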