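import Cfsg.Agent.Lib.MaxSub.Extra.Basic

/-!
If every non-central involution of `R` fuses only inside `R`, a finite overgroup of `R` normalises it: two
involutions from different conjugates of `R` would generate a dihedral group with a forbidden centre.
-/

set_option autoImplicit false

namespace CfsgLib.MaxSub.Extra

open Matrix Subgroup

variable {F : Type*} [Field F] {ι : Type} [Fintype ι] [DecidableEq ι]

/-- Fusion of non-central involutions stays in the normaliser. -/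
def UFix (R H : Subgroup (GL ι F)) : Prop :=
  ∀ z, IZ R z → ∀ h ∈ H, h * z * h⁻¹ ∈ normalizer (R : Set (GL ι F)) → h ∈ normalizer (R : Set (GL ι F))

/-- Powers of the product of two elements with square `±1`. -/
theorem dihedral_pow {z g : GL ι F} (hz : z * z = 1) (hg : PM (g * g) 1) (k : ℕ) :
    PM (z * (z * g) ^ k * z⁻¹) ((z * g) ^ k)⁻¹ ∧ PM (g * (z * g) ^ k * g⁻¹) ((z * g) ^ k)⁻¹ := by
  have hzi : z⁻¹ = z := inv_eq_of_mul_eq_one_right hz
  have hgi : PM g⁻¹ g := by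
    have := hg.mul (PM.refl g⁻¹)
    rw [mul_inv_cancel_right, one_mul] at this
    exact this.symm
  have h1 : PM (z * (z * g) * z⁻¹) (z * g)⁻¹ := by
    rw [_root_.mul_inv_rev, hzi, ← mul_assoc z z g, hz, one_mul]
    exact hgi.symm.mul (PM.refl z)
  have h2 : PM (z * (z * g) ^ k * z⁻¹) ((z * g) ^ k)⁻¹ := by
    have := h1.pow k
    rwa [conj_pow, inv_pow] at this
  refine ⟨h2, ?_⟩
  have e : g = z * (z * g) := by rw [← mul_assoc, hz, one_mul]
  set s := z * g
  rw [e, show z * s * s ^ k * (z * s)⁻¹ = z * (s * s ^ k * s⁻¹) * z⁻¹ by group,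
    show s * s ^ k * s⁻¹ = s ^ k by rw [← pow_succ', pow_succ, mul_inv_cancel_right]]
  exact h2

theorem dihedral_even {z g : GL ι F} (hz : z * z = 1) (hg : PM (g * g) 1) (k : ℕ) :
    PM ((z * g) ^ k * z * ((z * g) ^ k)⁻¹) ((z * g) ^ (k + k) * z) ∧
      PM ((z * g) ^ k * g * ((z * g) ^ k)⁻¹) ((z * g) ^ (k + k) * g) := by
  obtain ⟨h1, h2⟩ := dihedral_pow hz hg k
  rw [pow_add]
  set x := (z * g) ^ k
  have key : ∀ w, PM (w * x * w⁻¹) x⁻¹ → PM (x * w * x⁻¹) (x * x * w) := fun w hw => by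
    have := (hw.inv.mul (PM.refl w))
    rw [inv_inv, show (w * x * w⁻¹)⁻¹ * w = w * x⁻¹ by group] at this
    have h3 := (PM.refl x).mul this
    rwa [← mul_assoc, ← mul_assoc] at h3
  exact ⟨key z h1, key g h2⟩

theorem dihedral_odd {z g : GL ι F} (hz : z * z = 1) (hg : PM (g * g) 1) (k : ℕ) :
    PM (((z * g) ^ k)⁻¹ * g * (z * g) ^ k) (z * (z * g) ^ (2 * k + 1)) := by
  obtain ⟨h1, h2⟩ := dihedral_pow hz hg k
  set s := z * g
  set x := s ^ k
  have h3 : PM (x⁻¹ * g * x) (g * (x * x)) := by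
    have := h2.symm.mul (PM.refl (g * x))
    rwa [show g * x * g⁻¹ * (g * x) = g * (x * x) by group, ← mul_assoc x⁻¹ g x] at this
  refine h3.trans ?_
  rw [show g = z * s by rw [← mul_assoc, hz, one_mul], mul_assoc z s,
    show s * (x * x) = s ^ (2 * k + 1) by rw [← pow_add, ← pow_succ']; congr 1; omega]
  exact PM.refl _

variable {R H : Subgroup (GL ι F)}

theorem UFix.cent_pm (U : UFix R H) (X : Ext R) {z h : GL ι F} (hz : IZ R z) (hh : h ∈ H)
    (h1 : PM (h * z * h⁻¹) z) : h ∈ normalizer (R : Set (GL ι F)) :=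
  U z hz h hh (le_normalizer (X.mem_pm h1 hz.1))

/-- The order of an element modulo signs. -/
theorem exists_order [Finite F] (s : GL ι F) : ∃ n, 0 < n ∧ PM (s ^ n) 1 ∧ ∀ m, 0 < m → m < n → ¬ PM (s ^ m) 1 := by
  classical
  have hex : ∃ n, 0 < n ∧ PM (s ^ n) 1 := ⟨orderOf s, orderOf_pos s, Or.inl (pow_orderOf_eq_one s)⟩
  exact ⟨Nat.find hex, (Nat.find_spec hex).1, (Nat.find_spec hex).2,
    fun m hm hlt h => Nat.find_min hex hlt ⟨hm, h⟩⟩

variable [Finite F]

theorem UFix.no_shared (U : UFix R H) (X : Ext R) (hR : R ≤ H) {h e : GL ι F} (hh : h ∈ H) (he : e ∈ R)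
    (hen : ¬ PM e 1) (hhe : h⁻¹ * e * h ∈ R) : h ∈ normalizer (R : Set (GL ι F)) := by
  classical
  by_contra hN
  have hcq : ∀ x, x ∈ R → h⁻¹ * x * h ∈ R → ¬ PM x 1 → x * x = -1 := fun x hx hx' hn => by
    refine X.sq_neg hx fun e1 => hN ?_
    have hz : IZ R (h⁻¹ * x * h) := ⟨hx', by
      rw [show h⁻¹ * x * h * (h⁻¹ * x * h) = h⁻¹ * (x * x) * h by group, e1, mul_one, inv_mul_cancel],
      fun h1 => hn (by
        have := h1.conj h
        rwa [show h * (h⁻¹ * x * h) * h⁻¹ = x by group, mul_one, mul_inv_cancel] at this)⟩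
    refine U _ hz h hh ?_
    rw [show h * (h⁻¹ * x * h) * h⁻¹ = x by group]
    exact le_normalizer hx
  -- the shared subgroup
  let D : Subgroup (GL ι F) := R ⊓ R.map (MulAut.conj h).toMonoidHom
  have hD : ∀ x, x ∈ D ↔ x ∈ R ∧ h⁻¹ * x * h ∈ R := fun x => by
    refine ⟨fun hx => ⟨hx.1, ?_⟩, fun hx => ⟨hx.1, h⁻¹ * x * h, hx.2, ?_⟩⟩
    · obtain ⟨y, hy, rfl⟩ := hx.2
      show h⁻¹ * (h * y * h⁻¹) * h ∈ R
      rwa [show h⁻¹ * (h * y * h⁻¹) * h = y by group]
    · show h * (h⁻¹ * x * h) * h⁻¹ = x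
      group
  obtain ⟨a, ha, b, hb, hab⟩ := X.shape (inf_le_left : D ≤ R) fun x hx e1 => by_contra fun hn => by
    rw [hcq x ((hD x).1 hx).1 ((hD x).1 hx).2 hn] at e1
    exact X.one_ne_neg e1.symm
  obtain ⟨z, ⟨⟨hzR, hza⟩, hzb⟩, hz⟩ := X.exists_iz
    (inf_le_left.trans inf_le_left : R ⊓ centralizer {a} ⊓ centralizer {b} ≤ R)
    (lt_of_lt_of_le (by norm_num) (X.cent_two ((hD a).1 ha).1 ((hD b).1 hb).1))
  replace hzR : z ∈ R := hzR
  have hza := mem_centralizer_singleton_iff.1 hza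
  have hzb := mem_centralizer_singleton_iff.1 hzb
  have hzD : ∀ x ∈ D, z * x = x * z := fun x hx => by
    rcases hab x hx with e1 | e1 | e1 | e1 <;> rcases e1 with e1 | e1 <;> subst e1 <;>
      simp [hza, hzb, mul_neg, neg_mul, ← mul_assoc] <;> rw [mul_assoc a z b, hzb, ← mul_assoc]
  obtain ⟨w, hw, hwe⟩ := X.exists_iz_anti hhe fun h1 => hen (by
    have := h1.conj h
    rwa [show h * (h⁻¹ * e * h) * h⁻¹ = e by group, mul_one, mul_inv_cancel] at this)
  set g := h * w * h⁻¹ with hg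
  have hgg : g * g = 1 := by rw [hg, show h * w * h⁻¹ * (h * w * h⁻¹) = h * (w * w) * h⁻¹ by group, hw.2.1]; group
  have hzH : z ∈ H := hR hzR
  have hgH : g ∈ H := mul_mem (mul_mem hh (hR hw.1)) (inv_mem hh)
  have hge : g * e = -(e * g) := by
    have e1 : h * (w * (h⁻¹ * e * h)) * h⁻¹ = h * (-(h⁻¹ * e * h * w)) * h⁻¹ := by rw [hwe]
    rw [mul_neg, neg_mul] at e1
    rw [hg]
    convert e1 using 1
    · group
    · congr 1; group
  have hze : z * e = e * z := hzD e ((hD e).2 ⟨he, hhe⟩)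
  obtain ⟨n, hn0, hn, hmin⟩ := exists_order (z * g)
  set s := z * g with hs
  have hsH : ∀ k, s ^ k ∈ H := fun k => pow_mem (mul_mem hzH hgH) k
  have hes : ∀ k, e * s ^ k = (-1) ^ k * (s ^ k * e) := fun k => by
    have h1 : e * s = -(s * e) := by
      rw [hs, ← mul_assoc, ← hze, mul_assoc, mul_assoc, hge, mul_neg, neg_neg]
    induction k with
    | zero => simp
    | succ k ih =>
      rw [pow_succ s, ← mul_assoc, ih, mul_assoc, mul_assoc, h1, pow_succ]
      simp [mul_assoc, mul_neg, neg_mul]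
  obtain ⟨m, rfl⟩ : ∃ m, n = 2 * m := by
    rcases Nat.even_or_odd' n with ⟨m, h1 | h1⟩
    · exact ⟨m, h1⟩
    exfalso
    have h2 := hes n
    rw [h1, pow_succ ((-1 : GL ι F)), pow_mul, neg_one_sq, one_pow, one_mul, neg_one_mul, ← h1] at h2
    rcases hn with e1 | e1 <;> rw [e1] at h2 <;> simp at h2 <;>
      first | exact X.ne_neg e h2 | exact X.ne_neg e h2.symm
  set j := s ^ m with hj
  have hjn : ¬ PM j 1 := hmin m (by omega) (by omega)
  have hji : PM j⁻¹ j := by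
    have h1 : PM (j * j) 1 := by rw [hj, ← pow_add, ← two_mul]; exact hn
    have := h1.mul (PM.refl j⁻¹)
    rw [mul_inv_cancel_right, one_mul] at this
    exact this.symm
  obtain ⟨hjz, hjg⟩ := dihedral_pow hz.2.1 (Or.inl hgg) m
  have hjN : j ∈ normalizer (R : Set (GL ι F)) := U.cent_pm X hz (hsH m) (by
    have := (hjz.trans hji).symm
    rw [← hs, ← hj] at this
    have h2 := this.mul (PM.refl z)
    rw [inv_mul_cancel_right] at h2
    have h3 := h2.symm.mul (PM.refl j⁻¹)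
    rw [mul_inv_cancel_right] at h3
    exact h3.symm)
  have hjN' : h⁻¹ * j * h ∈ normalizer (R : Set (GL ι F)) := U.cent_pm X hw (mul_mem (mul_mem (inv_mem hh) (hsH m)) hh) (by
    have := (hjg.trans hji).symm
    rw [← hs, ← hj] at this
    have h2 := this.mul (PM.refl g)
    rw [inv_mul_cancel_right] at h2
    have h3 := h2.symm.mul (PM.refl j⁻¹)
    rw [mul_inv_cancel_right] at h3
    have h4 := h3.symm.conj h⁻¹
    rw [hg] at h4
    convert h4 using 1 <;> group)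
  have hRm : ∀ {x y : GL ι F}, PM x y → y ∈ R → x ∈ R := fun hxy hy => X.mem_pm hxy hy
  have hconjR : ∀ {x y : GL ι F}, x ∈ normalizer (R : Set (GL ι F)) → y ∈ R → x * y * x⁻¹ ∈ R :=
    fun hx hy => (Subgroup.mem_normalizer_iff.1 hx _).1 hy
  obtain ⟨hjR, hjR', hjsq⟩ : j ∈ R ∧ h⁻¹ * j * h ∈ R ∧ (j * z) * (j * z) = 1 := by
    rcases Nat.even_or_odd' m with ⟨k, hk | hk⟩
    · obtain ⟨h1, h2⟩ := dihedral_even hz.2.1 (Or.inl hgg) k
      rw [← hs, ← two_mul, ← hk, ← hj] at h1 h2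
      have hx := U z hz _ (hsH k) (PM.mem X.norm_neg h1 (mul_mem hjN (le_normalizer hzR)))
      have hr := hconjR hx hzR
      refine ⟨?_, ?_, ?_⟩
      · have := mul_mem (hRm h1.symm hr) (inv_mem hzR)
        rwa [mul_inv_cancel_right] at this
      · have h3 := h2.conj h⁻¹
        rw [hg, show h⁻¹ * (s ^ k * (h * w * h⁻¹) * (s ^ k)⁻¹) * h⁻¹⁻¹ = (h⁻¹ * s ^ k * h) * w * (h⁻¹ * s ^ k * h)⁻¹ by group,
          show h⁻¹ * (j * (h * w * h⁻¹)) * h⁻¹⁻¹ = (h⁻¹ * j * h) * w by group] at h3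
        have hy := U w hw _ (mul_mem (mul_mem (inv_mem hh) (hsH k)) hh)
          (PM.mem X.norm_neg h3 (mul_mem hjN' (le_normalizer hw.1)))
        have := mul_mem (hRm h3.symm (hconjR hy hw.1)) (inv_mem hw.1)
        rwa [mul_inv_cancel_right] at this
      · rw [← h1.sq, show s ^ k * z * (s ^ k)⁻¹ * (s ^ k * z * (s ^ k)⁻¹) = s ^ k * (z * z) * (s ^ k)⁻¹ by group,
          hz.2.1]
        group
    · obtain ⟨h1, h2⟩ := dihedral_pow hz.2.1 (Or.inl hgg) k
      have ht : PM ((s ^ k)⁻¹ * g * s ^ k) (z * j) := by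
        have h3 := dihedral_odd hz.2.1 (Or.inl hgg) k
        rwa [← hs, ← hk, ← hj] at h3
      have ht' : PM (s ^ k * z * (s ^ k)⁻¹) (j * g) := by
        have e3 : j * g = s ^ k * s ^ k * (s * g) := by rw [hj, hk, two_mul, pow_succ, pow_add]; group
        have e4 : s * g = z := by rw [hs, mul_assoc, hgg, mul_one]
        rw [e3, e4]
        have := (h1.inv.mul (PM.refl z))
        rw [inv_inv, ← hs, show (z * s ^ k * z⁻¹)⁻¹ * z = z * (s ^ k)⁻¹ by group] at this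
        have h5 := (PM.refl (s ^ k)).mul this
        rwa [← mul_assoc, ← mul_assoc] at h5
      refine ⟨?_, ?_, ?_⟩
      · have hy := U w hw ((s ^ k)⁻¹ * h) (mul_mem (inv_mem (hsH k)) hh) (PM.mem X.norm_neg (by
          rw [show (s ^ k)⁻¹ * h * w * ((s ^ k)⁻¹ * h)⁻¹ = (s ^ k)⁻¹ * g * s ^ k by rw [hg]; group]
          exact ht) (mul_mem (le_normalizer hzR) hjN))
        have hr := hconjR hy hw.1
        rw [show (s ^ k)⁻¹ * h * w * ((s ^ k)⁻¹ * h)⁻¹ = (s ^ k)⁻¹ * g * s ^ k by rw [hg]; group] at hr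
        have := mul_mem (inv_mem hzR) (hRm ht.symm hr)
        rwa [inv_mul_cancel_left] at this
      · have h3 := ht'.conj h⁻¹
        rw [show h⁻¹ * (s ^ k * z * (s ^ k)⁻¹) * h⁻¹⁻¹ = (h⁻¹ * s ^ k) * z * (h⁻¹ * s ^ k)⁻¹ by group, hg,
          show h⁻¹ * (j * (h * w * h⁻¹)) * h⁻¹⁻¹ = (h⁻¹ * j * h) * w by group] at h3
        have hy := U z hz _ (mul_mem (inv_mem hh) (hsH k))
          (PM.mem X.norm_neg h3 (mul_mem hjN' (le_normalizer hw.1)))
        have := mul_mem (hRm h3.symm (hconjR hy hzR)) (inv_mem hw.1)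
        rwa [mul_inv_cancel_right] at this
      · have e5 : (s ^ k)⁻¹ * g * s ^ k * ((s ^ k)⁻¹ * g * s ^ k) = 1 := by
          rw [show (s ^ k)⁻¹ * g * s ^ k * ((s ^ k)⁻¹ * g * s ^ k) = (s ^ k)⁻¹ * (g * g) * s ^ k by group, hgg]
          group
        rw [ht.sq] at e5
        calc j * z * (j * z) = z⁻¹ * (z * j * (z * j)) * z := by group
          _ = 1 := by rw [e5]; group
  have hjz' := hzD j ((hD j).2 ⟨hjR, hjR'⟩)
  rw [show j * z * (j * z) = j * (z * j) * z by group, hjz', show j * (j * z) * z = j * j * (z * z) by group,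
    hcq j hjR hjR' hjn, hz.2.1, mul_one] at hjsq
  exact X.one_ne_neg hjsq.symm

theorem UFix.cent_pm' (U : UFix R H) (X : Ext R) (hR : R ≤ H) {f h : GL ι F} (hf : f ∈ R) (hfn : ¬ PM f 1)
    (hh : h ∈ H) (h1 : PM (h * f * h⁻¹) f) : h ∈ normalizer (R : Set (GL ι F)) := by
  have h2 := U.no_shared X hR (inv_mem hh) hf hfn (by rw [inv_inv]; exact X.mem_pm h1 hf)
  simpa using inv_mem h2

theorem UFix.fusion (U : UFix R H) (X : Ext R) (hR : R ≤ H) {f h : GL ι F} (hf : f ∈ R) (hfn : ¬ PM f 1)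
    (hh : h ∈ H) (h1 : h * f * h⁻¹ ∈ normalizer (R : Set (GL ι F))) : h ∈ normalizer (R : Set (GL ι F)) := by
  by_cases hff : f * f = 1
  · exact U f ⟨hf, hff, hfn⟩ h hh h1
  obtain ⟨z, hz, hzc, -⟩ := X.exists_iz_norm h1 (by
    rw [show h * f * h⁻¹ * (h * f * h⁻¹) = h * (f * f) * h⁻¹ by group, X.sq_neg hf hff]
    simp [PM])
  have hk : h⁻¹ * z * h ∈ H := mul_mem (mul_mem (inv_mem hh) (hR hz.1)) hh
  have h2 := U.cent_pm' X hR hf hfn hk (by
    have := hzc.conj h⁻¹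
    convert this using 1 <;> group)
  have h3 := U z hz h⁻¹ (inv_mem hh) (by rwa [inv_inv])
  simpa using inv_mem h3

/-- The overgroup normalises `R`. -/
theorem UFix.le_normalizer (U : UFix R H) (X : Ext R) (hR : R ≤ H) : H ≤ normalizer (R : Set (GL ι F)) := by
  classical
  intro h hh
  by_contra hN
  obtain ⟨z, -, hz⟩ := X.exists_iz (C := R) le_rfl (lt_of_lt_of_le (by norm_num) X.order)
  obtain ⟨f, hf, hff⟩ : ∃ f ∈ R, f * f ≠ 1 := by
    by_contra! hall
    have := X.elem R le_rfl hall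
    omega
  have hf2 := X.sq_neg hf hff
  have hfn : ¬ PM f 1 := fun e => hff (by rw [e.sq, one_mul])
  set g := h * f * h⁻¹ with hg
  have hgg : g * g = -1 := by
    rw [hg, show h * f * h⁻¹ * (h * f * h⁻¹) = h * (f * f) * h⁻¹ by group, hf2]
    simp
  have hgH : g ∈ H := mul_mem (mul_mem hh (hR hf)) (inv_mem hh)
  obtain ⟨n, hn0, hn, hmin⟩ := exists_order (z * g)
  set s := z * g with hs
  have hsH : ∀ k, s ^ k ∈ H := fun k => pow_mem (mul_mem (hR hz.1) hgH) k
  have odd_case : ∀ k, PM ((s ^ k)⁻¹ * g * s ^ k) (z * s ^ (2 * k + 1)) :=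
    dihedral_odd hz.2.1 (Or.inr hgg)
  obtain ⟨m, rfl⟩ : ∃ m, n = 2 * m := by
    rcases Nat.even_or_odd' n with ⟨k, h1 | h1⟩
    · exact ⟨k, h1⟩
    exfalso
    have h2 := (odd_case k).sq
    rw [h1] at hn
    have h3 := ((PM.refl z).mul hn).sq
    rw [mul_one, hz.2.1] at h3
    rw [h3, show (s ^ k)⁻¹ * g * s ^ k * ((s ^ k)⁻¹ * g * s ^ k) = (s ^ k)⁻¹ * (g * g) * s ^ k by group, hgg] at h2
    simp at h2
    exact X.one_ne_neg h2.symm
  set j := s ^ m with hj
  have hjn : ¬ PM j 1 := hmin m (by omega) (by omega)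
  have hji : PM j⁻¹ j := by
    have h1 : PM (j * j) 1 := by rw [hj, ← pow_add, ← two_mul]; exact hn
    have := h1.mul (PM.refl j⁻¹)
    rw [mul_inv_cancel_right, one_mul] at this
    exact this.symm
  obtain ⟨hjz, hjg⟩ := dihedral_pow hz.2.1 (Or.inr hgg) m
  rw [← hs, ← hj] at hjz hjg
  have flip : ∀ u, PM (u * j * u⁻¹) j⁻¹ → PM (j * u * j⁻¹) u := fun u hu => by
    have h2 := (hu.trans hji).mul (PM.refl u)
    rw [inv_mul_cancel_right] at h2
    have h3 := h2.symm.mul (PM.refl j⁻¹)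
    rwa [mul_inv_cancel_right] at h3
  have hjN : j ∈ normalizer (R : Set (GL ι F)) := U.cent_pm X hz (hsH m) (flip z hjz)
  have hjN' : h⁻¹ * j * h ∈ normalizer (R : Set (GL ι F)) :=
    U.cent_pm' X hR hf hfn (mul_mem (mul_mem (inv_mem hh) (hsH m)) hh) (by
      have := (flip g hjg).conj h⁻¹
      rw [hg] at this
      convert this using 1 <;> group)
  have hjR : j ∈ R := by
    rcases Nat.even_or_odd' m with ⟨k, hk | hk⟩
    · obtain ⟨h1, -⟩ := dihedral_even hz.2.1 (Or.inr hgg) k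
      rw [← hs, ← two_mul, ← hk, ← hj] at h1
      have hx := U z hz _ (hsH k) (PM.mem X.norm_neg h1 (mul_mem hjN (Subgroup.le_normalizer hz.1)))
      have := mul_mem (X.mem_pm h1.symm ((Subgroup.mem_normalizer_iff.1 hx _).1 hz.1)) (inv_mem hz.1)
      rwa [mul_inv_cancel_right] at this
    · have ht := odd_case k
      rw [← hk, ← hj] at ht
      have e : (s ^ k)⁻¹ * h * f * ((s ^ k)⁻¹ * h)⁻¹ = (s ^ k)⁻¹ * g * s ^ k := by rw [hg]; group
      have hy := U.fusion X hR hf hfn (mul_mem (inv_mem (hsH k)) hh)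
        (PM.mem X.norm_neg (e ▸ ht) (mul_mem (Subgroup.le_normalizer hz.1) hjN))
      have hr := (Subgroup.mem_normalizer_iff.1 hy _).1 hf
      rw [e] at hr
      have := mul_mem (inv_mem hz.1) (X.mem_pm ht.symm hr)
      rwa [inv_mul_cancel_left] at this
  exact hN (by simpa using inv_mem (U.fusion X hR hjR hjn (inv_mem hh) (by rwa [inv_inv])))

end CfsgLib.MaxSub.Extra
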